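import Groth.Agent.H40.GQ.CoeqMono
import Groth.Agent.H40.QuotShDesc
import Groth.Agent.H53.ZMT.GrpdOfEqv

/-!
# The quotient of a scheme by a finite locally free equivalence relation
-/

set_option autoImplicit false
set_option backward.isDefEq.respectTransparency.types false
universe u

open CategoryTheory CategoryTheory.Limits AlgebraicGeometry Grpd

namespace Groth.Agent.H40.GQ

open Groth.Agent.H40.FG Groth.Agent.H53.ZMT

variable {S : Scheme.{u}} {R U : Over S} (s t : R ⟶ U)

/-- the quotient of a scheme by a finite locally free equivalence relation all of whose classes lie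
in affine opens. -/
theorem exists_quotient_of_isEqvRel (h : AlgSp.IsEqvRel s t)
    [IsFinite s.left] [Flat s.left] [LocallyOfFinitePresentation s.left]
    (horb : ∀ x : U.left, ∃ V : U.left.Opens, IsAffineOpen V ∧
      ∀ r : R.left, s.left r = x → t.left r ∈ V) :
    ∃ (M : Over S) (m : U ⟶ M), IsFinite m.left ∧ Flat m.left ∧
      LocallyOfFinitePresentation m.left ∧ Surjective m.left ∧
      IsPullback t.left s.left m.left m.left ∧
      QuotSh.IsQuotient Scheme.fppfPrecoverage s t m := by
  let G := grpdOfEqv s t h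
  haveI : IsFinite G.s := ‹IsFinite s.left›
  haveI : Flat G.s := ‹Flat s.left›
  haveI : LocallyOfFinitePresentation G.s := ‹LocallyOfFinitePresentation s.left›
  haveI : Mono G.j := mono_j_grpdOfEqv h
  have hcov : Covers G := covers_of_orbits G horb
  have hpb : IsPullback t.left s.left (quotP hcov) (quotP hcov) := isPullback_quotP hcov
  haveI : QuasiCompact (quotP hcov) := inferInstance
  have hee : EffectiveEpi (quotP hcov) := inferInstance
  have hdesc : ∀ {Z : Scheme.{u}} (g₁ g₂ : Z ⟶ U.left),
      g₁ ≫ quotP hcov = g₂ ≫ quotP hcov → g₁ ≫ U.hom = g₂ ≫ U.hom := by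
    intro Z g₁ g₂ hg
    have h1 : hpb.lift g₁ g₂ hg ≫ t.left = g₁ := hpb.lift_fst _ _ _
    have h2 : hpb.lift g₁ g₂ hg ≫ s.left = g₂ := hpb.lift_snd _ _ _
    calc g₁ ≫ U.hom = (hpb.lift g₁ g₂ hg ≫ t.left) ≫ U.hom := by rw [h1]
      _ = (hpb.lift g₁ g₂ hg ≫ s.left) ≫ U.hom := by
        rw [Category.assoc, Category.assoc, Over.w t, Over.w s]
      _ = g₂ ≫ U.hom := by rw [h2]
  have hm : quotP hcov ≫ EffectiveEpi.desc (quotP hcov) U.hom hdesc = U.hom :=
    EffectiveEpi.fac _ _ _
  refine ⟨Over.mk (EffectiveEpi.desc (quotP hcov) U.hom hdesc), Over.homMk (quotP hcov) hm,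
    (inferInstance : IsFinite (quotP hcov)), (inferInstance : Flat (quotP hcov)),
    (inferInstance : LocallyOfFinitePresentation (quotP hcov)),
    (inferInstance : Surjective (quotP hcov)), hpb, ?_⟩
  apply Groth.Agent.H40.QuotShLoc.isQuotient_of_isKernelPair
  · refine IsPullback.of_map (Over.forget S) ?_ hpb.flip
    apply Over.OverMorphism.ext
    simp only [Over.comp_left, Over.homMk_left]
    exact (t_quotP hcov).symm
  · intro T y
    apply Groth.Agent.H40.QuotShLoc.liftSieve_mem_of_cover
    intro Z g
    change Presieve.singleton (pullback.fst g (quotP hcov)) ∈ _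
    exact Scheme.Hom.singleton_mem_fppfPrecoverage _

end Groth.Agent.H40.GQ
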