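import Groth.Agent.H40.GQ.NormPt
import Groth.Agent.H40.FG.Integral

/-!
# The norm along a finite locally free morphism, over an affine open of the target
-/

set_option autoImplicit false
set_option backward.isDefEq.respectTransparency.types false
universe u

open CategoryTheory CategoryTheory.Limits AlgebraicGeometry

namespace Groth.Agent.H40.GQ

open Groth.Agent.H40.FG

theorem mem_basicOpen_iff_notMem_primeIdealOf {X : Scheme.{u}} {W : X.Opens} (hW : IsAffineOpen W)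
    (a : Γ(X, W)) (x : X) (hx : x ∈ W) :
    x ∈ X.basicOpen a ↔ a ∉ (hW.primeIdealOf ⟨x, hx⟩).asIdeal := by
  have h1 : hW.fromSpec (hW.primeIdealOf ⟨x, hx⟩) = x := hW.fromSpec_primeIdealOf ⟨x, hx⟩
  have h2 := hW.fromSpec_preimage_basicOpen a
  have h3 : hW.primeIdealOf ⟨x, hx⟩ ∈ hW.fromSpec ⁻¹ᵁ X.basicOpen a ↔ x ∈ X.basicOpen a := by
    change hW.fromSpec (hW.primeIdealOf ⟨x, hx⟩) ∈ X.basicOpen a ↔ _
    rw [h1]
  rw [← h3, h2]
  rfl

theorem exists_primeIdealOf_eq {X : Scheme.{u}} {W : X.Opens} (hW : IsAffineOpen W)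
    (q : PrimeSpectrum Γ(X, W)) : ∃ (x : X) (hx : x ∈ W), hW.primeIdealOf ⟨x, hx⟩ = q := by
  refine ⟨(hW.isoSpec.inv q).1, (hW.isoSpec.inv q).2, ?_⟩
  change hW.isoSpec.hom (hW.isoSpec.inv q) = q
  rw [← Scheme.Hom.comp_apply, Iso.inv_hom_id]
  rfl

theorem primeIdealOf_injective {X : Scheme.{u}} {W : X.Opens} (hW : IsAffineOpen W)
    {x y : X} (hx : x ∈ W) (hy : y ∈ W)
    (h : hW.primeIdealOf ⟨x, hx⟩ = hW.primeIdealOf ⟨y, hy⟩) : x = y := by
  have h1 : hW.fromSpec (hW.primeIdealOf ⟨x, hx⟩) = x := hW.fromSpec_primeIdealOf ⟨x, hx⟩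
  have h2 : hW.fromSpec (hW.primeIdealOf ⟨y, hy⟩) = y := hW.fromSpec_primeIdealOf ⟨y, hy⟩
  rw [← h1, h, h2]

section

variable {X Y : Scheme.{u}} (f : X ⟶ Y) [IsFinite f] [Flat f] [LocallyOfFinitePresentation f]

theorem exists_dualBasis_app {V : Y.Opens} (hV : IsAffineOpen V) :
    ∃ n : ℕ, Nonempty (DualBasis (f.app V).hom n) := by
  have hV' : IsAffineOpen (f ⁻¹ᵁ V) := hV.preimage f
  have h1 : (f.app V).hom.Finite := IsFinite.finite_app f V hV
  have h2 : (f.app V).hom.Flat := by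
    have := HasRingHomProperty.appLE (P := @Flat) f inferInstance ⟨V, hV⟩ ⟨f ⁻¹ᵁ V, hV'⟩ le_rfl
    rwa [← Scheme.Hom.app_eq_appLE] at this
  have h3 : (f.app V).hom.FinitePresentation := by
    have := HasRingHomProperty.appLE (P := @LocallyOfFinitePresentation) f inferInstance
      ⟨V, hV⟩ ⟨f ⁻¹ᵁ V, hV'⟩ le_rfl
    rwa [← Scheme.Hom.app_eq_appLE] at this
  apply exists_dualBasis
  · exact h1
  · algebraize [(f.app V).hom]
    haveI : Module.FinitePresentation Γ(Y, V) Γ(X, f ⁻¹ᵁ V) :=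
      Module.FinitePresentation.of_finite_of_finitePresentation _ _
    exact Module.Flat.projective_of_finitePresentation

/-- the norm of a function `b` on `f⁻¹ V` vanishes exactly under the zeros of `b`. -/
theorem exists_norm {V : Y.Opens} (hV : IsAffineOpen V) (b : Γ(X, f ⁻¹ᵁ V)) :
    ∃ g : Γ(Y, V), ∀ y ∈ V, (y ∈ Y.basicOpen g ↔ ∀ x, f x = y → x ∈ X.basicOpen b) := by
  have hV' : IsAffineOpen (f ⁻¹ᵁ V) := hV.preimage f
  obtain ⟨n, ⟨D⟩⟩ := exists_dualBasis_app f hV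
  refine ⟨D.nm b, fun y hy => ?_⟩
  have hcomap : ∀ (x : X) (hx : x ∈ f ⁻¹ᵁ V),
      (hV'.primeIdealOf ⟨x, hx⟩).comap (f.app V).hom = hV.primeIdealOf ⟨f x, hx⟩ := by
    intro x hx
    have := IsAffineOpen.comap_primeIdealOf_appLE (f := f) V hV (f ⁻¹ᵁ V) hV' le_rfl hx
    rwa [← Scheme.Hom.app_eq_appLE] at this
  rw [mem_basicOpen_iff_notMem_primeIdealOf hV _ y hy]
  constructor
  · intro hg x hxy
    have hx : x ∈ f ⁻¹ᵁ V := by
      change f x ∈ V
      rw [hxy]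
      exact hy
    rw [mem_basicOpen_iff_notMem_primeIdealOf hV' _ x hx]
    intro hb
    apply hg
    have h1 := D.nm_mem_comap_of_mem b _ hb
    have h2 := congrArg PrimeSpectrum.asIdeal (hcomap x hx)
    subst hxy
    rw [← h2]
    exact h1
  · intro hall hg
    letI := (f.app V).hom.toAlgebra
    obtain ⟨q, hq, hqp, hbq⟩ := DualBasis.exists_prime_of_nm_mem (A := Γ(Y, V))
      (B := Γ(X, f ⁻¹ᵁ V)) D b (hV.primeIdealOf ⟨y, hy⟩).asIdeal hg
    obtain ⟨x, hx, hxq⟩ := exists_primeIdealOf_eq hV' ⟨q, hq⟩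
    have hfx : f x = y := by
      apply primeIdealOf_injective hV (x := f x) (y := y) hx hy
      rw [← hcomap x hx, hxq]
      apply PrimeSpectrum.ext
      exact hqp
    have := hall x hfx
    rw [mem_basicOpen_iff_notMem_primeIdealOf hV' _ x hx, hxq] at this
    exact this hbq

end

end Groth.Agent.H40.GQ
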