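import Groth.Agent.H40.GQ.Orbit
import Groth.Agent.H40.GQ.NormOpen

/-!
# Invariant affine open neighbourhoods for a finite locally free groupoid
-/

set_option autoImplicit false
set_option backward.isDefEq.respectTransparency.types false
universe u

open CategoryTheory CategoryTheory.Limits AlgebraicGeometry Grpd

namespace Groth.Agent.H40.GQ

open Groth.Agent.H40.FG

/-- a finite set of points of an affine open `V`, contained in an open `O`, lies in a basic open of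
`V` contained in `O`. -/
theorem exists_basicOpen_le_of_finite {X : Scheme.{u}} {V : X.Opens} (hV : IsAffineOpen V)
    (O : X.Opens) (T : Set X) (hT : T.Finite) (hTV : T ⊆ V) (hTO : T ⊆ O) :
    ∃ f : Γ(X, V), X.basicOpen f ≤ O ∧ T ⊆ X.basicOpen f := by
  have hcl : IsClosed ((hV.fromSpec ⁻¹ᵁ O : (Spec Γ(X, V)).Opens) : Set (Spec Γ(X, V)))ᶜ :=
    (hV.fromSpec ⁻¹ᵁ O).isOpen.isClosed_compl
  obtain ⟨I, hI⟩ := (PrimeSpectrum.isClosed_iff_zeroLocus_ideal _).mp hcl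
  haveI : Fintype T := hT.fintype
  let P : T → Ideal Γ(X, V) := fun y => (hV.primeIdealOf ⟨y.1, hTV y.2⟩).asIdeal
  have hnle : ∀ y : T, ¬ I ≤ P y := by
    intro y hle
    have h1 : hV.primeIdealOf ⟨y.1, hTV y.2⟩ ∈ PrimeSpectrum.zeroLocus (I : Set Γ(X, V)) := hle
    rw [← hI] at h1
    apply h1
    change hV.fromSpec (hV.primeIdealOf ⟨y.1, hTV y.2⟩) ∈ O
    rw [hV.fromSpec_primeIdealOf ⟨y.1, hTV y.2⟩]
    exact hTO y.2
  have hex : ∃ f ∈ I, ∀ y : T, f ∉ P y := by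
    rcases isEmpty_or_nonempty T with hE | ⟨⟨y₀⟩⟩
    · exact ⟨0, zero_mem _, fun y => (hE.false y).elim⟩
    · by_contra hcon
      push_neg at hcon
      have hsub : (I : Set Γ(X, V)) ⊆ ⋃ i ∈ ((Finset.univ : Finset T) : Set T), (P i : Set Γ(X, V)) := by
        intro f hf
        obtain ⟨y, hy⟩ := hcon f hf
        exact Set.mem_biUnion (Finset.mem_coe.mpr (Finset.mem_univ y)) hy
      obtain ⟨i, -, hi⟩ := (Ideal.subset_union_prime (s := (Finset.univ : Finset T)) (f := P) y₀ y₀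
        (fun i _ _ _ => (hV.primeIdealOf ⟨i.1, hTV i.2⟩).isPrime)).mp hsub
      exact hnle i hi
  obtain ⟨f, hfI, hf⟩ := hex
  refine ⟨f, ?_, ?_⟩
  · intro w hw
    have hwV : w ∈ V := X.basicOpen_le f hw
    rw [mem_basicOpen_iff_notMem_primeIdealOf hV f w hwV] at hw
    have h1 : hV.primeIdealOf ⟨w, hwV⟩ ∉ PrimeSpectrum.zeroLocus (I : Set Γ(X, V)) := by
      intro h
      exact hw (h hfI)
    rw [← hI] at h1
    have h2 : hV.primeIdealOf ⟨w, hwV⟩ ∈ hV.fromSpec ⁻¹ᵁ O := by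
      by_contra h3
      exact h1 h3
    have h3 : hV.fromSpec (hV.primeIdealOf ⟨w, hwV⟩) ∈ O := h2
    rwa [hV.fromSpec_primeIdealOf ⟨w, hwV⟩] at h3
  · intro y hy
    rw [SetLike.mem_coe, mem_basicOpen_iff_notMem_primeIdealOf hV f y (hTV hy)]
    exact hf ⟨y, hy⟩

variable {S : Scheme.{u}} (G : GroupoidScheme S)
  [IsFinite G.s] [Flat G.s] [LocallyOfFinitePresentation G.s]

/-- a point whose orbit lies in an affine open `V` and in an open `O` has an invariant affine open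
neighbourhood inside `O`. -/
theorem exists_invariant_affine_nbhd (x : G.U) (V O : G.U.Opens) (hV : IsAffineOpen V)
    (hx : ∀ y, Orb G x y → y ∈ V ∧ y ∈ O) :
    ∃ W : G.U.Opens, IsAffineOpen W ∧ x ∈ W ∧ W ≤ O ∧ IsInv G W := by
  set O₁ := core G (O ⊓ V) with hO₁
  have hO₁inv : IsInv G O₁ := isInv_core _
  have hO₁le : O₁ ≤ O ⊓ V := core_le _
  have hTO₁ : {y | Orb G x y} ⊆ (O₁ : Set G.U) := by
    intro y hy
    rw [SetLike.mem_coe, mem_core]
    intro z hz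
    exact ⟨(hx z (Orb.trans hy hz)).2, (hx z (Orb.trans hy hz)).1⟩
  obtain ⟨f, hfO, hfT⟩ := exists_basicOpen_le_of_finite hV O₁ {y | Orb G x y} (finite_orbit x)
    (fun y hy => (hx y hy).1) hTO₁
  set V₁ := G.U.basicOpen f with hV₁
  have hV₁aff : IsAffineOpen V₁ := hV.basicOpen f
  have hle : G.s ⁻¹ᵁ V₁ ≤ G.t ⁻¹ᵁ V := by
    intro r hr
    have h1 : G.s r ∈ O₁ := hfO hr
    have h2 : G.t r ∈ O₁ := (hO₁inv.mem_iff ⟨r, rfl, rfl⟩).mp h1
    exact (hO₁le h2).2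
  set b := G.t.appLE V (G.s ⁻¹ᵁ V₁) hle f with hb
  have hbo : G.R.basicOpen b = G.s ⁻¹ᵁ V₁ ⊓ G.t ⁻¹ᵁ V₁ := Scheme.basicOpen_appLE _ _ _ _ _
  obtain ⟨g, hg⟩ := exists_norm G.s hV₁aff b
  have hW : ∀ w : G.U, w ∈ G.U.basicOpen g ↔ ∀ y, Orb G w y → y ∈ V₁ := by
    intro w
    constructor
    · intro hw y hy
      obtain ⟨r, hr1, hr2⟩ := hy
      have hwV₁ : w ∈ V₁ := G.U.basicOpen_le g hw
      have := (hg w hwV₁).mp hw r hr1
      rw [hbo] at this
      rw [← hr2]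
      exact this.2
    · intro hw
      have hwV₁ : w ∈ V₁ := hw w (orb_refl G w)
      rw [hg w hwV₁]
      intro r hr
      rw [hbo]
      refine ⟨?_, hw _ ⟨r, hr, rfl⟩⟩
      change G.s r ∈ V₁
      rw [hr]
      exact hwV₁
  refine ⟨G.U.basicOpen g, hV₁aff.basicOpen g, ?_, ?_, ?_⟩
  · rw [hW]
    intro y hy
    exact hfT hy
  · exact (G.U.basicOpen_le g).trans (hfO.trans (hO₁le.trans inf_le_left))
  · apply isInv_of_forall
    intro w w' hww' hw
    rw [hW] at hw ⊢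
    intro y hy
    exact hw y (hww'.trans hy)

end Groth.Agent.H40.GQ
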