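import Groth.Agent.H40.GQ.ActionQuot
import Groth.Agent.H40.GQ.InvNbhd
import Mathlib.AlgebraicGeometry.Morphisms.QuasiFinite

/-!
# Orbits of an action of a finite locally free group scheme lie in affine opens
(in three cases)
-/

set_option autoImplicit false
set_option backward.isDefEq.respectTransparency.types false
universe u

open CategoryTheory CategoryTheory.Limits AlgebraicGeometry MonoidalCategory
  CartesianMonoidalCategory MonObj

namespace Groth.Agent.H40.GQ

open Groth.Agent.H40

variable {S : Scheme.{u}} {G X : Over S} [GrpObj G] (a : AlgGrp.Action G X)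

theorem isFinite_snd_left [IsFinite G.hom] : IsFinite (snd G X).left := by
  rw [Over.snd_left]; infer_instance

theorem flat_snd_left [Flat G.hom] : Flat (snd G X).left := by
  rw [Over.snd_left]; infer_instance

theorem lfp_snd_left [LocallyOfFinitePresentation G.hom] :
    LocallyOfFinitePresentation (snd G X).left := by
  rw [Over.snd_left]; infer_instance

theorem universallyInjective_snd_left [UniversallyInjective G.hom] :
    UniversallyInjective (snd G X).left := by
  rw [Over.snd_left]
  exact MorphismProperty.pullback_snd (P := @UniversallyInjective) _ _ ‹_›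

/-- case (a): `X ⟶ S` affine. -/
theorem horb_of_isAffineHom [IsAffineHom X.hom] (x : X.left) :
    ∃ V : X.left.Opens, IsAffineOpen V ∧
      ∀ r : (G ⊗ X).left, (snd G X).left r = x → a.act.left r ∈ V := by
  obtain ⟨_, ⟨S₁, hS₁, rfl⟩, hxS₁, -⟩ :=
    S.isBasis_affineOpens.exists_subset_of_mem_open (Set.mem_univ (X.hom x)) isOpen_univ
  refine ⟨X.hom ⁻¹ᵁ S₁, hS₁.preimage X.hom, fun r hr => ?_⟩
  change X.hom (a.act.left r) ∈ S₁
  have h1 : X.hom (a.act.left r) = X.hom ((snd G X).left r) := by
    rw [← Scheme.Hom.comp_apply, ← Scheme.Hom.comp_apply, Over.w a.act, Over.w (snd G X)]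
  rw [h1, hr]
  exact hxS₁

/-- case (b): `X` is an open subscheme of an affine scheme. -/
theorem horb_of_isOpenImmersion [IsFinite G.hom] {R : CommRingCat.{u}} (i : X.left ⟶ Spec R)
    [IsOpenImmersion i] (x : X.left) :
    ∃ V : X.left.Opens, IsAffineOpen V ∧
      ∀ r : (G ⊗ X).left, (snd G X).left r = x → a.act.left r ∈ V := by
  haveI : IsFinite (snd G X).left := isFinite_snd_left
  have hfin : ((snd G X).left ⁻¹' {x}).Finite := (snd G X).left.finite_preimage_singleton x
  set T : Set (Spec R) := (fun r => i (a.act.left r)) '' ((snd G X).left ⁻¹' {x}) with hT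
  have hTfin : T.Finite := hfin.image _
  obtain ⟨f, hfO, hfT⟩ := exists_basicOpen_le_of_finite (isAffineOpen_top (Spec R))
    i.opensRange T hTfin (fun _ _ => trivial) (by
      rintro _ ⟨r, -, rfl⟩
      exact ⟨_, rfl⟩)
  refine ⟨i ⁻¹ᵁ (Spec R).basicOpen f,
    ((isAffineOpen_top (Spec R)).basicOpen f).preimage_of_isOpenImmersion i hfO, fun r hr => ?_⟩
  exact hfT ⟨r, hr, rfl⟩

/-- the identity point `x ↦ (e, x)`. -/
noncomputable def unitPt (G X : Over S) [GrpObj G] : X ⟶ G ⊗ X := lift (toUnit X ≫ η[G]) (𝟙 X)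

@[reassoc (attr := simp)]
theorem unitPt_snd : unitPt G X ≫ snd G X = 𝟙 X := by simp [unitPt]

@[reassoc (attr := simp)]
theorem unitPt_act : unitPt G X ≫ a.act = 𝟙 X := by
  have h := one_psmul a (𝟙 X)
  rw [psmul_def] at h
  rw [unitPt, ← Hom.one_def]
  exact h

/-- case (c): `G ⟶ S` radicial. -/
theorem horb_of_universallyInjective [UniversallyInjective G.hom] (x : X.left) :
    ∃ V : X.left.Opens, IsAffineOpen V ∧
      ∀ r : (G ⊗ X).left, (snd G X).left r = x → a.act.left r ∈ V := by
  haveI : UniversallyInjective (snd G X).left := universallyInjective_snd_left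
  obtain ⟨_, ⟨V, hV, rfl⟩, hxV, -⟩ :=
    X.left.isBasis_affineOpens.exists_subset_of_mem_open (Set.mem_univ x) isOpen_univ
  refine ⟨V, hV, fun r hr => ?_⟩
  have h1 : (snd G X).left ((unitPt G X).left x) = x := by
    rw [← Scheme.Hom.comp_apply, ← Over.comp_left, unitPt_snd]
    rfl
  have h2 : r = (unitPt G X).left x :=
    (snd G X).left.injective (hr.trans h1.symm)
  have h3 : a.act.left ((unitPt G X).left x) = x := by
    rw [← Scheme.Hom.comp_apply, ← Over.comp_left, unitPt_act]
    rfl
  rw [h2, h3]
  exact hxV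

end Groth.Agent.H40.GQ
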