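import Groth.Agent.H40.GQ.EqvQuot
import Groth.Agent.H40.ActPts
import Mathlib.AlgebraicGeometry.Morphisms.UniversallyInjective

/-!
# Free actions of finite locally free group schemes: the equivalence relation and its orbits
-/

set_option autoImplicit false
set_option backward.isDefEq.respectTransparency.types false
universe u

open CategoryTheory CategoryTheory.Limits AlgebraicGeometry MonoidalCategory
  CartesianMonoidalCategory MonObj

namespace Groth.Agent.H40.GQ

open Groth.Agent.H40

variable {S : Scheme.{u}} {G X : Over S} [GrpObj G] (a : AlgGrp.Action G X)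

theorem comp_act_eq_psmul {T : Over S} (r : T ⟶ G ⊗ X) :
    r ≫ a.act = psmul a (r ≫ fst G X) (r ≫ snd G X) := by
  rw [psmul_def]
  congr 1
  apply CartesianMonoidalCategory.hom_ext <;> simp

/-- a free action gives an equivalence relation. -/
theorem isEqvRel_of_free
    (hfree : ∀ (T : Over S) (g : T ⟶ G) (x : T ⟶ X), lift g x ≫ a.act = x → g = toUnit T ≫ η[G]) :
    AlgSp.IsEqvRel (snd G X) a.act where
  injective T r r' h1 h2 := by
    rw [comp_act_eq_psmul, comp_act_eq_psmul, ← h2] at h1
    have h3 : psmul a ((r' ≫ fst G X)⁻¹ * (r ≫ fst G X)) (r ≫ snd G X) = r ≫ snd G X := by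
      rw [mul_psmul, h1, inv_psmul_psmul]
    have h4 := hfree T _ _ h3
    have h5 : (r' ≫ fst G X)⁻¹ * (r ≫ fst G X) = 1 := by
      rw [h4, Hom.one_def]
    have h6 : r ≫ fst G X = r' ≫ fst G X := by
      rw [inv_mul_eq_one] at h5
      exact h5.symm
    apply CartesianMonoidalCategory.hom_ext
    · exact h6
    · exact h2
  equivalence T := by
    refine ⟨fun x => ?_, fun {x y} hxy => ?_, fun {x y z} hxy hyz => ?_⟩
    · refine ⟨lift (1 : T ⟶ G) x, ?_, by simp⟩
      change psmul a 1 x = x
      exact one_psmul a x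
    · obtain ⟨r, h1, h2⟩ := hxy
      rw [comp_act_eq_psmul, h2] at h1
      refine ⟨lift (r ≫ fst G X)⁻¹ x, ?_, by simp⟩
      change psmul a (r ≫ fst G X)⁻¹ x = y
      rw [← h1, inv_psmul_psmul]
    · obtain ⟨r, h1, h2⟩ := hxy
      obtain ⟨r', h1', h2'⟩ := hyz
      rw [comp_act_eq_psmul, h2] at h1
      rw [comp_act_eq_psmul, h2'] at h1'
      refine ⟨lift ((r ≫ fst G X) * (r' ≫ fst G X)) z, ?_, by simp⟩
      change psmul a ((r ≫ fst G X) * (r' ≫ fst G X)) z = x
      rw [mul_psmul, h1', h1]

end Groth.Agent.H40.GQ
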