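import Groth.Agent.H40.FG.Quot

/-!
# The map to the spectrum of invariants is a coequalizer with respect to affine targets
-/

set_option autoImplicit false
set_option backward.isDefEq.respectTransparency.types false
universe u

open CategoryTheory CategoryTheory.Limits AlgebraicGeometry Grpd

namespace Groth.Agent.H40.GQ

open Groth.Agent.H40.FG

variable {S : Scheme.{u}} (H : GroupoidScheme S)

theorem toQuot_appTop : H.toQuot.appTop =
    (Scheme.ΓSpecIso (CommRingCat.of H.invariants)).hom ≫ CommRingCat.ofHom H.invariants.subtype := by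
  unfold GroupoidScheme.toQuot
  rw [Scheme.Hom.comp_appTop, Scheme.toSpecΓ_appTop]
  exact Scheme.ΓSpecIso_naturality (CommRingCat.ofHom H.invariants.subtype)

theorem toQuot_appTop_injective : Function.Injective H.toQuot.appTop.hom := by
  rw [toQuot_appTop, CommRingCat.hom_comp]
  exact Function.Injective.comp (g := (CommRingCat.ofHom H.invariants.subtype).hom)
    Subtype.val_injective
    (ConcreteCategory.bijective_of_isIso (Scheme.ΓSpecIso (CommRingCat.of H.invariants)).hom).1

/-- uniqueness for affine targets. -/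
theorem hom_ext_toQuot_of_isAffine {Z : Scheme.{u}} [IsAffine Z]
    (h₁ h₂ : Spec (CommRingCat.of H.invariants) ⟶ Z) (e : H.toQuot ≫ h₁ = H.toQuot ≫ h₂) :
    h₁ = h₂ := by
  apply ext_of_isAffine
  have := congrArg Scheme.Hom.appTop e
  rw [Scheme.Hom.comp_appTop, Scheme.Hom.comp_appTop] at this
  ext a
  apply toQuot_appTop_injective H
  exact congrArg (fun φ => φ.hom a) this

/-- existence for affine targets. -/
theorem exists_desc_toQuot_of_isAffine {Z : Scheme.{u}} [IsAffine Z] (g : H.U ⟶ Z)
    (hg : H.t ≫ g = H.s ≫ g) : ∃ h : Spec (CommRingCat.of H.invariants) ⟶ Z, H.toQuot ≫ h = g := by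
  have hmem : ∀ a : Γ(Z, ⊤), g.appTop.hom a ∈ H.invariants := by
    intro a
    change H.s.appTop.hom (g.appTop.hom a) = H.t.appTop.hom (g.appTop.hom a)
    have := congrArg (fun φ => (Scheme.Hom.appTop φ).hom a) hg
    simp only [Scheme.Hom.comp_appTop, CommRingCat.hom_comp, RingHom.comp_apply] at this
    exact this.symm
  let φ' : Γ(Z, ⊤) →+* H.invariants := g.appTop.hom.codRestrict H.invariants hmem
  refine ⟨Spec.map (CommRingCat.ofHom φ') ≫ Z.isoSpec.inv, ?_⟩
  unfold GroupoidScheme.toQuot
  rw [Category.assoc, ← Spec.map_comp_assoc]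
  have : CommRingCat.ofHom φ' ≫ CommRingCat.ofHom H.invariants.subtype = g.appTop := by
    ext a
    rfl
  rw [this, ← Scheme.toSpecΓ_naturality_assoc, Scheme.toSpecΓ_isoSpec_inv, Category.comp_id]

end Groth.Agent.H40.GQ
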