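import Groth.Agent.H40.GQ.Restrict
import Mathlib.AlgebraicGeometry.Morphisms.Flat
import Mathlib.AlgebraicGeometry.Morphisms.FinitePresentation

/-!
# Properties of the restriction of a groupoid scheme to an invariant open
-/

set_option autoImplicit false
set_option backward.isDefEq.respectTransparency.types false
universe u

open CategoryTheory CategoryTheory.Limits AlgebraicGeometry Grpd

namespace Groth.Agent.H40.GQ

open Groth.Agent.H6 Groth.Agent.H40.FG Res

variable {S : Scheme.{u}} (G : GroupoidScheme S)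

/-- `(α⁻¹)⁻¹ = α`. -/
theorem comp_i_i {T : Scheme.{u}} (α : T ⟶ G.R) : (α ≫ G.i) ≫ G.i = α := by
  have h1 : (α ≫ G.i) ≫ G.s = α ≫ G.t := by rw [Category.assoc, G.i_s]
  have h2 : ((α ≫ G.i) ≫ G.i) ≫ G.s = GrpdCalc.comp G (α ≫ G.i) α h1 ≫ G.t := by
    rw [GrpdCalc.comp_t, Category.assoc, G.i_s]
  have key := GrpdCalc.inv_comp_comp G (α ≫ G.i) α h1 h2
  refine Eq.trans ?_ key
  have e1 : GrpdCalc.comp G (α ≫ G.i) α h1 = α ≫ G.s ≫ G.e := GrpdCalc.i_comp G α h1
  have h3 : ((α ≫ G.i) ≫ G.i) ≫ G.s = (α ≫ G.s ≫ G.e) ≫ G.t := by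
    simp only [Category.assoc, G.e_t, G.i_s, G.i_t, Category.comp_id]
  rw [GrpdCalc.comp_congr G rfl e1 h2 h3]
  symm
  apply GrpdCalc.comp_e'
  rw [Category.assoc, Category.assoc, ← Category.assoc G.i G.s, G.i_s, ← Category.assoc G.i G.t,
    G.i_t]

theorem i_i : G.i ≫ G.i = 𝟙 G.R := by
  have := comp_i_i G (𝟙 G.R)
  rwa [Category.id_comp] at this

instance isIso_i : IsIso G.i := ⟨G.i, i_i G, i_i G⟩

theorem t_eq : G.t = G.i ≫ G.s := G.i_s.symm

theorem isFinite_t [IsFinite G.s] : IsFinite G.t := by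
  rw [t_eq]
  infer_instance

theorem flat_t [Flat G.s] : Flat G.t := by
  rw [t_eq]
  infer_instance

theorem lfp_t [LocallyOfFinitePresentation G.s] : LocallyOfFinitePresentation G.t := by
  rw [t_eq]
  infer_instance

variable (W : G.U.Opens) (hW : IsInv G W)

@[simp] theorem restrict_U : (restrict G W hW).U = W.toScheme := rfl
@[simp] theorem restrict_R : (restrict G W hW).R = (G.s ⁻¹ᵁ W).toScheme := rfl

theorem restrict_s_ι : (restrict G W hW).s ≫ W.ι = (G.s ⁻¹ᵁ W).ι ≫ G.s := s'_ι G W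
theorem restrict_t_ι : (restrict G W hW).t ≫ W.ι = (G.s ⁻¹ᵁ W).ι ≫ G.t := t'_ι G W hW
theorem restrict_e_ι : (restrict G W hW).e ≫ (G.s ⁻¹ᵁ W).ι = W.ι ≫ G.e := e'_ι G W
theorem restrict_i_ι : (restrict G W hW).i ≫ (G.s ⁻¹ᵁ W).ι = (G.s ⁻¹ᵁ W).ι ≫ G.i :=
  i'_ι G W hW

theorem isAffine_restrict_U (hWa : IsAffineOpen W) : IsAffine (restrict G W hW).U := hWa

theorem isAffine_restrict_R [IsAffineHom G.s] (hWa : IsAffineOpen W) :
    IsAffine (restrict G W hW).R := hWa.preimage G.s

theorem restrict_s_eq : (restrict G W hW).s = G.s ∣_ W :=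
  Scheme.Hom.resLE_eq_morphismRestrict _

instance isFinite_restrict_s [IsFinite G.s] : IsFinite (restrict G W hW).s := by
  rw [restrict_s_eq]
  exact IsZariskiLocalAtTarget.restrict ‹IsFinite G.s› _

instance flat_restrict_s [Flat G.s] : Flat (restrict G W hW).s := by
  rw [restrict_s_eq]
  exact IsZariskiLocalAtTarget.restrict ‹Flat G.s› _

instance lfp_restrict_s [LocallyOfFinitePresentation G.s] :
    LocallyOfFinitePresentation (restrict G W hW).s := by
  rw [restrict_s_eq]
  exact IsZariskiLocalAtTarget.restrict ‹LocallyOfFinitePresentation G.s› _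

instance isFinite_restrict_t [IsFinite G.s] : IsFinite (restrict G W hW).t :=
  isFinite_t _

instance flat_restrict_t [Flat G.s] : Flat (restrict G W hW).t := flat_t _

instance lfp_restrict_t [LocallyOfFinitePresentation G.s] :
    LocallyOfFinitePresentation (restrict G W hW).t := lfp_t _

theorem restrict_j_comp : (restrict G W hW).j ≫
    pullback.map (restrict G W hW).pU (restrict G W hW).pU G.pU G.pU W.ι W.ι (𝟙 S)
      (by rw [Category.comp_id]) (by rw [Category.comp_id]) =
    (G.s ⁻¹ᵁ W).ι ≫ G.j := by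
  apply pullback.hom_ext
  · simp only [GroupoidScheme.j, Category.assoc, pullback.lift_fst, pullback.lift_fst_assoc,
      pullback.map]
    exact restrict_t_ι G W hW
  · simp only [GroupoidScheme.j, Category.assoc, pullback.lift_snd, pullback.lift_snd_assoc,
      pullback.map]
    exact restrict_s_ι G W hW

instance mono_restrict_j [Mono G.j] : Mono (restrict G W hW).j := by
  have h : Mono ((restrict G W hW).j ≫
      pullback.map (restrict G W hW).pU (restrict G W hW).pU G.pU G.pU W.ι W.ι (𝟙 S)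
        (by rw [Category.comp_id]) (by rw [Category.comp_id])) := by
    rw [restrict_j_comp]
    infer_instance
  exact @mono_of_mono _ _ _ _ _ (restrict G W hW).j _ h

/-- orbits of the restriction are the orbits of `G`. -/
theorem orb_restrict_iff (x y : W) :
    Orb (restrict G W hW) x y ↔ Orb G x.1 y.1 := by
  constructor
  · rintro ⟨r, h1, h2⟩
    refine ⟨(G.s ⁻¹ᵁ W).ι r, ?_, ?_⟩
    · rw [← Scheme.Hom.comp_apply, ← restrict_s_ι G W hW, Scheme.Hom.comp_apply]
      exact congrArg Subtype.val h1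
    · rw [← Scheme.Hom.comp_apply, ← restrict_t_ι G W hW, Scheme.Hom.comp_apply]
      exact congrArg Subtype.val h2
  · rintro ⟨r, h1, h2⟩
    have hr : r ∈ G.s ⁻¹ᵁ W := by
      change G.s r ∈ W
      rw [h1]
      exact x.2
    refine ⟨⟨r, hr⟩, ?_, ?_⟩
    · apply Subtype.ext
      have := congrArg (fun φ => (Scheme.Hom.toLRSHom φ).base (⟨r, hr⟩ : (G.s ⁻¹ᵁ W).toScheme))
        (restrict_s_ι G W hW)
      exact this.trans h1
    · apply Subtype.ext
      have := congrArg (fun φ => (Scheme.Hom.toLRSHom φ).base (⟨r, hr⟩ : (G.s ⁻¹ᵁ W).toScheme))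
        (restrict_t_ι G W hW)
      exact this.trans h2

end Groth.Agent.H40.GQ
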