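import Groth.Agent.H40.GQ.Compare2
import Groth.Agent.H40.GQ.Restrict2

/-!
# Charts of the quotient: invariant affine opens and the quotients of the restricted groupoids
-/

set_option autoImplicit false
set_option backward.isDefEq.respectTransparency.types false
universe u

open CategoryTheory CategoryTheory.Limits AlgebraicGeometry Grpd

namespace Groth.Agent.H40.GQ

open Groth.Agent.H40.FG

variable {S : Scheme.{u}} (G : GroupoidScheme S)

/-- the invariant affine opens of `U`. -/
def J : Type u := {W : G.U.Opens // IsAffineOpen W ∧ IsInv G W}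

instance : PartialOrder (J G) := inferInstanceAs (PartialOrder {W : G.U.Opens // IsAffineOpen W ∧ IsInv G W})

variable {G}

theorem J.le_iff {W W' : J G} : W ≤ W' ↔ W.1 ≤ W'.1 := Iff.rfl

/-- the restricted groupoid. -/
noncomputable abbrev rG (W : J G) : GroupoidScheme S := restrict G W.1 W.2.2

instance isAffine_rG_U (W : J G) : IsAffine (rG W).U := W.2.1

instance isAffine_rG_R [IsAffineHom G.s] (W : J G) : IsAffine (rG W).R := W.2.1.preimage G.s

/-- the chart. -/
noncomputable abbrev chartM (W : J G) : Scheme.{u} := Spec (CommRingCat.of (rG W).invariants)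

/-- the quotient map of the chart. -/
noncomputable abbrev chartP (W : J G) : W.1.toScheme ⟶ chartM W := (rG W).toQuot

section Trans

variable {W W' : J G} (h : W ≤ W')

include h in
theorem sPre_le : G.s ⁻¹ᵁ W.1 ≤ G.s ⁻¹ᵁ W'.1 := fun _ hr => h hr

theorem homOfLE_s : G.R.homOfLE (sPre_le h) ≫ (rG W').s = (rG W).s ≫ G.U.homOfLE h := by
  rw [← cancel_mono W'.1.ι, Category.assoc, Category.assoc, restrict_s_ι, Scheme.homOfLE_ι,
    Scheme.homOfLE_ι_assoc, restrict_s_ι]

theorem homOfLE_t : G.R.homOfLE (sPre_le h) ≫ (rG W').t = (rG W).t ≫ G.U.homOfLE h := by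
  rw [← cancel_mono W'.1.ι, Category.assoc, Category.assoc, restrict_t_ι, Scheme.homOfLE_ι,
    Scheme.homOfLE_ι_assoc, restrict_t_ι]

theorem pullsInv_homOfLE : PullsInv (rG W) (rG W') (G.U.homOfLE h) :=
  pullsInv_of_hom _ (G.R.homOfLE (sPre_le h)) (homOfLE_s h) (homOfLE_t h)

/-- the transition map of charts. -/
noncomputable abbrev chartT : chartM W ⟶ chartM W' := quotMap (G.U.homOfLE h) (pullsInv_homOfLE h)

@[reassoc]
theorem chartP_chartT : chartP W ≫ chartT h = G.U.homOfLE h ≫ chartP W' := toQuot_quotMap _ _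

theorem preimage_range_le :
    (rG W').s ⁻¹ᵁ (G.U.homOfLE h).opensRange ≤ (G.R.homOfLE (sPre_le h)).opensRange := by
  rw [Scheme.opensRange_homOfLE, Scheme.opensRange_homOfLE]
  intro r hr
  change ((rG W').s r).1 ∈ W.1 at hr
  change r.1 ∈ G.s ⁻¹ᵁ W.1
  have h1 : ((rG W').s r).1 = G.s r.1 := by
    have := congrArg (fun φ => (Scheme.Hom.toLRSHom φ).base r) (restrict_s_ι G W'.1 W'.2.2)
    exact this
  rw [h1] at hr
  exact hr

theorem isInv_range : IsInv (rG W') (G.U.homOfLE h).opensRange := by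
  rw [Scheme.opensRange_homOfLE]
  apply isInv_iff.mpr
  intro r
  have h1 : ((rG W').s r).1 = G.s r.1 :=
    congrArg (fun φ => (Scheme.Hom.toLRSHom φ).base r) (restrict_s_ι G W'.1 W'.2.2)
  have h2 : ((rG W').t r).1 = G.t r.1 :=
    congrArg (fun φ => (Scheme.Hom.toLRSHom φ).base r) (restrict_t_ι G W'.1 W'.2.2)
  change ((rG W').s r).1 ∈ W.1 ↔ ((rG W').t r).1 ∈ W.1
  rw [h1, h2]
  exact isInv_iff.mp W.2.2 r.1

variable [IsFinite G.s] [Flat G.s] [LocallyOfFinitePresentation G.s]

instance isOpenImmersion_chartT : IsOpenImmersion (chartT h) :=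
  isOpenImmersion_quotMap (G₁ := rG W) (G₂ := rG W') (G.U.homOfLE h) (G.R.homOfLE (sPre_le h))
    (homOfLE_s h) (homOfLE_t h) (preimage_range_le h) (isInv_range h) (pullsInv_homOfLE h)

end Trans

end Groth.Agent.H40.GQ
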