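import Mathlib.AlgebraicGeometry.Morphisms.QuasiCompact
import Mathlib.RingTheory.Spectrum.Prime.Topology

/-!
# Points in the closure of the image of a closed set under a quasi-compact morphism are
specializations of points of the image
-/

set_option autoImplicit false
set_option backward.isDefEq.respectTransparency.types false
universe u

open CategoryTheory AlgebraicGeometry TopologicalSpace

namespace Groth.Agent.H40.GQ

theorem exists_specializes_comap {A B : Type*} [CommRing A] [CommRing B] (φ : A →+* B)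
    (Z : Set (PrimeSpectrum B)) (hZ : IsClosed Z) (p : PrimeSpectrum A)
    (hp : p ∈ closure (PrimeSpectrum.comap φ '' Z)) :
    ∃ q ∈ Z, PrimeSpectrum.comap φ q ⤳ p := by
  obtain ⟨I, rfl⟩ := (PrimeSpectrum.isClosed_iff_zeroLocus_ideal Z).mp hZ
  have hsub : PrimeSpectrum.comap φ '' PrimeSpectrum.zeroLocus (I : Set B) ⊆
      PrimeSpectrum.zeroLocus ((I.comap φ : Ideal A) : Set A) := by
    rintro _ ⟨q, hq, rfl⟩
    exact Ideal.comap_mono hq
  have hp' : p ∈ PrimeSpectrum.zeroLocus ((I.comap φ : Ideal A) : Set A) :=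
    closure_minimal hsub (PrimeSpectrum.isClosed_zeroLocus _) hp
  obtain ⟨q, hqI, hq, hqle⟩ := p.asIdeal.exists_ideal_comap_le_prime I hp'
  exact ⟨⟨q, hq⟩, hqI, (PrimeSpectrum.le_iff_specializes ⟨q.comap φ, inferInstance⟩ p).mp hqle⟩

theorem exists_specializes_specMap {A B : CommRingCat.{u}} (g : Spec B ⟶ Spec A)
    (Z : Set (Spec B)) (hZ : IsClosed Z) (p : Spec A) (hp : p ∈ closure (g '' Z)) :
    ∃ q ∈ Z, g q ⤳ p := by
  obtain ⟨φ, rfl⟩ := Spec.map_surjective g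
  exact exists_specializes_comap φ.hom Z hZ p hp

theorem exists_specializes_of_mem_closure_image {X Y : Scheme.{u}} (f : X ⟶ Y) [QuasiCompact f]
    (Z : Set X) (hZ : IsClosed Z) (y : Y) (hy : y ∈ closure (f '' Z)) :
    ∃ z ∈ Z, f z ⤳ y := by
  obtain ⟨Y₁, hY₁, hyY₁, -⟩ := exists_isAffineOpen_mem_and_subset (x := y) (U := ⊤) trivial
  have hcomp : IsCompact ((f ⁻¹ᵁ Y₁ : X.Opens) : Set X) :=
    QuasiCompact.isCompact_preimage (f := f) _ Y₁.isOpen hY₁.isCompact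
  obtain ⟨B, h, hh⟩ := isCompact_iff_exists.mp hcomp
  have hrange : Set.range (h ≫ f) ⊆ Set.range hY₁.fromSpec := by
    rintro _ ⟨b, rfl⟩
    rw [hY₁.range_fromSpec]
    have : h b ∈ (f ⁻¹ᵁ Y₁ : X.Opens) := by
      rw [← SetLike.mem_coe, ← hh]
      exact ⟨b, rfl⟩
    exact this
  let g : Spec B ⟶ Spec Γ(Y, Y₁) := IsOpenImmersion.lift hY₁.fromSpec (h ≫ f) hrange
  have hg : g ≫ hY₁.fromSpec = h ≫ f := IsOpenImmersion.lift_fac _ _ _
  have hg' : ∀ b, hY₁.fromSpec (g b) = f (h b) := fun b => by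
    rw [← Scheme.Hom.comp_apply, hg, Scheme.Hom.comp_apply]
  obtain ⟨y₁, rfl⟩ : y ∈ Set.range hY₁.fromSpec := by
    rw [hY₁.range_fromSpec]
    exact hyY₁
  have hy₁ : y₁ ∈ closure (g '' (h ⁻¹' Z)) := by
    rw [mem_closure_iff]
    intro O hO hy₁O
    have hO' : IsOpen (hY₁.fromSpec '' O) := hY₁.fromSpec.isOpenEmbedding.isOpenMap O hO
    obtain ⟨_, ⟨o, hoO, rfl⟩, ⟨z, hzZ, hz⟩⟩ :=
      mem_closure_iff.mp hy _ hO' ⟨y₁, hy₁O, rfl⟩
    have hz1 : z ∈ (f ⁻¹ᵁ Y₁ : X.Opens) := by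
      change f z ∈ Y₁
      rw [hz, ← SetLike.mem_coe, ← hY₁.range_fromSpec]
      exact ⟨o, rfl⟩
    rw [← SetLike.mem_coe, ← hh] at hz1
    obtain ⟨b, rfl⟩ := hz1
    refine ⟨g b, ?_, b, hzZ, rfl⟩
    have : g b = o := hY₁.fromSpec.isOpenEmbedding.injective ((hg' b).trans hz)
    rw [this]
    exact hoO
  obtain ⟨b, hb, hby⟩ := exists_specializes_specMap g (h ⁻¹' Z) (hZ.preimage h.continuous) y₁ hy₁
  refine ⟨h b, hb, ?_⟩
  rw [← hg' b]
  exact hby.map hY₁.fromSpec.continuous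

end Groth.Agent.H40.GQ
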