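import Groth.Agent.H40.GQ.Epi

/-!
# The quotient map is a coequalizer in the category of schemes
-/

set_option autoImplicit false
set_option backward.isDefEq.respectTransparency.types false
universe u

open CategoryTheory CategoryTheory.Limits AlgebraicGeometry Grpd

namespace Groth.Agent.H40.GQ

open Groth.Agent.H40.FG

variable {S : Scheme.{u}} {G : GroupoidScheme S} {Z : Scheme.{u}}

/-- charts mapped into an affine open of the target. -/
def Jg (g : G.U ⟶ Z) : Type u :=
  {W : J G // ∃ V : Z.Opens, IsAffineOpen V ∧ W.1 ≤ g ⁻¹ᵁ V}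

instance (g : G.U ⟶ Z) : PartialOrder (Jg g) :=
  inferInstanceAs (PartialOrder {W : J G // ∃ V : Z.Opens, IsAffineOpen V ∧ W.1 ≤ g ⁻¹ᵁ V})

variable [IsFinite G.s] [Flat G.s] [LocallyOfFinitePresentation G.s]

theorem exists_chart_desc (g : G.U ⟶ Z) (hg : G.t ≫ g = G.s ≫ g) (W : J G)
    (hW : ∃ V : Z.Opens, IsAffineOpen V ∧ W.1 ≤ g ⁻¹ᵁ V) :
    ∃ h : chartM W ⟶ Z, chartP W ≫ h = W.1.ι ≫ g := by
  obtain ⟨V, hV, hWV⟩ := hW
  haveI : IsAffine V.toScheme := hV
  have hr : Set.range (W.1.ι ≫ g) ⊆ Set.range V.ι := by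
    rintro _ ⟨x, rfl⟩
    rw [Scheme.Opens.range_ι]
    exact hWV x.2
  have hgW : (rG W).t ≫ IsOpenImmersion.lift V.ι (W.1.ι ≫ g) hr =
      (rG W).s ≫ IsOpenImmersion.lift V.ι (W.1.ι ≫ g) hr := by
    rw [← cancel_mono V.ι, Category.assoc, Category.assoc, IsOpenImmersion.lift_fac,
      ← Category.assoc, ← Category.assoc, restrict_t_ι, restrict_s_ι, Category.assoc,
      Category.assoc, hg]
  obtain ⟨h, hh⟩ := exists_desc_toQuot_of_isAffine (rG W) _ hgW
  refine ⟨h ≫ V.ι, ?_⟩
  change (rG W).toQuot ≫ h ≫ V.ι = _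
  rw [← Category.assoc, hh, IsOpenImmersion.lift_fac]

variable (hcov : Covers G) (g : G.U ⟶ Z) (hg : G.t ≫ g = G.s ≫ g)

include hcov hg in
theorem coverY_aux (y : quotY G) : ∃ W : Jg g, y ∈ Set.range (chartι G W.1) := by
  obtain ⟨x, rfl⟩ := quotP_surjective hcov y
  obtain ⟨V, hV, hxV, -⟩ := exists_isAffineOpen_mem_and_subset (x := g x) (U := ⊤) trivial
  obtain ⟨W₀, hW₀⟩ := hcov x
  obtain ⟨W, hxW, hWN, -⟩ := exists_J_le W₀ x hW₀ (g ⁻¹ᵁ V)
    (isInv_preimage_of_invariant G g hg V) hxV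
  exact ⟨⟨W, V, hV, hWN⟩, chartP W ⟨x, hxW⟩, (quotP_apply hcov W ⟨x, hxW⟩).symm⟩

/-- the open cover of the quotient by the charts mapped into affine opens of the target. -/
noncomputable def coverY : (quotY G).OpenCover where
  I₀ := Jg g
  X W := chartM W.1
  f W := chartι G W.1
  mem₀ := by
    rw [Scheme.presieve₀_mem_precoverage_iff]
    exact ⟨fun y => coverY_aux hcov g hg y, fun W => inferInstance⟩

instance : PartialOrder (coverY hcov g hg).I₀ := inferInstanceAs (PartialOrder (Jg g))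

theorem coverY_directed (i j : Jg g) (x : ↥(pullback (chartι G i.1) (chartι G j.1))) :
    ∃ (k : Jg g) (hki : k ≤ i) (hkj : k ≤ j) (y : chartM k.1),
      pullback.lift (chartT (show k.1 ≤ i.1 from hki)) (chartT (show k.1 ≤ j.1 from hkj))
        (by rw [chartT_chartι, chartT_chartι]) y = x := by
  have hx : chartι G i.1 (pullback.fst (chartι G i.1) (chartι G j.1) x) =
      chartι G j.1 (pullback.snd (chartι G i.1) (chartι G j.1) x) := by
    rw [← Scheme.Hom.comp_apply, ← Scheme.Hom.comp_apply, pullback.condition]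
  obtain ⟨k, hki, hkj, z, hz1, hz2⟩ := (chartι_eq_iff _ _).mp hx
  obtain ⟨V, hV, hiV⟩ := i.2
  refine ⟨⟨k, V, hV, le_trans hki hiV⟩, hki, hkj, z, ?_⟩
  apply (pullback.fst (chartι G i.1) (chartι G j.1) ≫ chartι G i.1).isOpenEmbedding.injective
  rw [← Scheme.Hom.comp_apply, pullback.lift_fst_assoc, Scheme.Hom.comp_apply, hz1,
    Scheme.Hom.comp_apply]

noncomputable instance : Scheme.Cover.LocallyDirected (coverY hcov g hg) where
  trans {i j} hij := chartT (show i.1 ≤ j.1 from leOfHom hij)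
  trans_id i := chartT_refl _
  trans_comp hij hjk := chartT_trans _ _
  w hij := chartT_chartι _
  directed {i j} x := by
    obtain ⟨k, hki, hkj, y, hy⟩ := coverY_directed (G := G) g i j x
    exact ⟨k, homOfLE hki, homOfLE hkj, y, hy⟩
  property_trans hij := isOpenImmersion_chartT _

/-- the descended map on a chart. -/
noncomputable def chartDesc (W : Jg g) : chartM W.1 ⟶ Z := (exists_chart_desc g hg W.1 W.2).choose

theorem chartP_chartDesc (W : Jg g) : chartP W.1 ≫ chartDesc g hg W = W.1.1.ι ≫ g :=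
  (exists_chart_desc g hg W.1 W.2).choose_spec

theorem chartT_chartDesc {W W' : Jg g} (h : W ≤ W') :
    chartT (show W.1 ≤ W'.1 from h) ≫ chartDesc g hg W' = chartDesc g hg W := by
  haveI := epi_chartP W.1
  rw [← cancel_epi (chartP W.1), chartP_chartT_assoc, chartP_chartDesc, chartP_chartDesc,
    Scheme.homOfLE_ι_assoc]

theorem quotDesc_aux {i j : (coverY hcov g hg).I₀} (hij : i ⟶ j) :
    (coverY hcov g hg).trans hij ≫ chartDesc g hg j = chartDesc g hg i :=
  chartT_chartDesc g hg (leOfHom hij)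

/-- the descended map. -/
noncomputable def quotDesc : quotY G ⟶ Z :=
  (coverY hcov g hg).glueMorphismsOfLocallyDirected (fun W => chartDesc g hg W)
    (fun hij => quotDesc_aux hcov g hg hij)

theorem chartι_quotDesc (W : Jg g) : chartι G W.1 ≫ quotDesc hcov g hg = chartDesc g hg W :=
  (coverY hcov g hg).map_glueMorphismsOfLocallyDirected _
    (fun hij => quotDesc_aux hcov g hg hij) W

theorem quotP_quotDesc : quotP hcov ≫ quotDesc hcov g hg = g := by
  apply Scheme.hom_ext_of_forall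
  intro x
  obtain ⟨W, m, hm⟩ := coverY_aux hcov g hg (quotP hcov x)
  have hxW : x ∈ W.1.1 := by
    rw [← quotP_preimage_range hcov W.1]
    exact ⟨m, hm⟩
  refine ⟨W.1.1, hxW, ?_⟩
  rw [← Category.assoc, ι_quotP, Category.assoc, chartι_quotDesc, chartP_chartDesc]

theorem quotDesc_unique (h' : quotY G ⟶ Z) (e : quotP hcov ≫ h' = g) :
    h' = quotDesc hcov g hg := by
  apply (coverY hcov g hg).hom_ext
  intro (W : Jg g)
  change chartι G W.1 ≫ h' = chartι G W.1 ≫ quotDesc hcov g hg
  haveI := epi_chartP W.1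
  rw [chartι_quotDesc, ← cancel_epi (chartP W.1), chartP_chartDesc, ← Category.assoc, ← ι_quotP hcov,
    Category.assoc, e]

/-- the quotient map is a coequalizer of `(t, s)` in the category of schemes. -/
noncomputable def isColimitQuotP : IsColimit (Cofork.ofπ (quotP hcov) (t_quotP hcov)) :=
  Cofork.IsColimit.mk _
    (fun c => quotDesc hcov c.π c.condition)
    (fun c => quotP_quotDesc hcov c.π c.condition)
    (fun c m hm => quotDesc_unique hcov c.π c.condition m hm)

end Groth.Agent.H40.GQ
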