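import Groth.Agent.H40.GQ.CoversOfClosed
import Mathlib.AlgebraicGeometry.Sites.Fpqc

/-!
# In the monomorphism case the quotient map is a coequalizer
-/

set_option autoImplicit false
set_option backward.isDefEq.respectTransparency.types false
universe u

open CategoryTheory CategoryTheory.Limits AlgebraicGeometry Grpd

namespace Groth.Agent.H40.GQ

open Groth.Agent.H40.FG

variable {S : Scheme.{u}} {G : GroupoidScheme S}

/-- an effective epimorphism whose kernel pair is `(t, s)` is a coequalizer of `(t, s)`. -/
noncomputable def isColimitOfEffectiveEpi {Y : Scheme.{u}} (p : G.U ⟶ Y) [EffectiveEpi p]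
    (hpb : IsPullback G.t G.s p p) : IsColimit (Cofork.ofπ p hpb.w) :=
  Cofork.IsColimit.mk _
    (fun c => EffectiveEpi.desc p c.π (fun g₁ g₂ hg => by
      have h1 : hpb.lift g₁ g₂ hg ≫ G.t = g₁ := hpb.lift_fst _ _ _
      have h2 : hpb.lift g₁ g₂ hg ≫ G.s = g₂ := hpb.lift_snd _ _ _
      calc g₁ ≫ c.π = (hpb.lift g₁ g₂ hg ≫ G.t) ≫ c.π := by rw [h1]
        _ = (hpb.lift g₁ g₂ hg ≫ G.s) ≫ c.π := by rw [Category.assoc, Category.assoc, c.condition]
        _ = g₂ ≫ c.π := by rw [h2]))
    (fun c => EffectiveEpi.fac p _ _)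
    (fun c m hm => by
      have : Epi p := inferInstance
      rw [← cancel_epi p]
      exact hm.trans (EffectiveEpi.fac p _ _).symm)

variable [IsFinite G.s] [Flat G.s] [LocallyOfFinitePresentation G.s] (hcov : Covers G) [Mono G.j]

/-- the quotient map is a coequalizer in the monomorphism case. -/
noncomputable def isColimitQuotPOfMono : IsColimit (Cofork.ofπ (quotP hcov) (t_quotP hcov)) :=
  haveI : QuasiCompact (quotP hcov) := inferInstance
  haveI : EffectiveEpi (quotP hcov) := inferInstance
  isColimitOfEffectiveEpi (quotP hcov) (isPullback_quotP hcov)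

end Groth.Agent.H40.GQ
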