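import Mathlib.AlgebraicGeometry.AffineScheme
import Mathlib.AlgebraicGeometry.Morphisms.QuasiCompact
import Mathlib.Topology.Inseparable

/-!
# Compact subsets stable under generalization are intersections of compact opens
-/

set_option autoImplicit false
universe u

open CategoryTheory AlgebraicGeometry TopologicalSpace

namespace Groth.Agent.H40.GQ

/-- a compact subset of a scheme stable under generalization is separated from any point outside it
by a compact open. -/
theorem exists_compact_open_of_notMem {X : Scheme.{u}} (E : Set X) (hE : IsCompact E)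
    (P : X → Prop) (hP : ∀ e ∈ E, ∃ O : X.Opens, e ∈ O ∧
      ∀ y ∈ O, P y) :
    ∃ V : X.Opens, IsCompact (V : Set X) ∧ E ⊆ V ∧ ∀ y ∈ V, P y := by
  have hcov : ∀ e ∈ E, ∃ V : X.Opens, IsAffineOpen V ∧ e ∈ V ∧ ∀ y ∈ V, P y := by
    intro e he
    obtain ⟨O, heO, hO⟩ := hP e he
    obtain ⟨V, hV, heV, hVO⟩ := exists_isAffineOpen_mem_and_subset (x := e) (U := O) heO
    exact ⟨V, hV, heV, fun y hy => hO y (hVO hy)⟩
  choose! V hVa hVe hVP using hcov
  obtain ⟨t, ht1, htE, ht2⟩ := hE.elim_finite_subcover_image (b := E)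
    (c := fun e => (V e : Set X))
    (fun e _ => (V e).isOpen) (fun e he => Set.mem_biUnion he (hVe e he))
  refine ⟨⨆ e ∈ htE.toFinset, V e, ?_, ?_, ?_⟩
  · have : ((⨆ e ∈ htE.toFinset, V e : X.Opens) : Set X) = ⋃ e ∈ htE.toFinset, (V e : Set X) := by
      simp
    rw [this]
    exact htE.toFinset.isCompact_biUnion
      (fun e he => (hVa e (ht1 (htE.mem_toFinset.mp he))).isCompact)
  · intro e he
    obtain ⟨e', he', hee'⟩ := Set.mem_iUnion₂.mp (ht2 he)
    simp only [Opens.coe_iSup, Set.mem_iUnion, SetLike.mem_coe, Set.Finite.mem_toFinset]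
    exact ⟨e', he', hee'⟩
  · intro y hy
    simp only [Opens.mem_iSup, Set.Finite.mem_toFinset] at hy
    obtain ⟨e, he, hye⟩ := hy
    exact hVP e (ht1 he) y hye

theorem eq_iInter_compact_opens {X : Scheme.{u}} (E : Set X) (hE : IsCompact E)
    (hgen : StableUnderGeneralization E) :
    ∃ (ι : Type u) (_ : Nonempty ι) (V : ι → X.Opens), (∀ i, IsCompact (V i : Set X)) ∧
      E = ⋂ i, (V i : Set X) := by
  refine ⟨{V : X.Opens // IsCompact (V : Set X) ∧ E ⊆ V}, ?_, fun V => V.1, fun V => V.2.1, ?_⟩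
  · obtain ⟨V, hV, hEV, -⟩ := exists_compact_open_of_notMem E hE (fun _ => True)
      (fun e _ => ⟨⊤, trivial, fun _ _ => trivial⟩)
    exact ⟨⟨V, hV, hEV⟩⟩
  · apply Set.Subset.antisymm
    · intro e he
      simp only [Set.mem_iInter]
      exact fun V => V.2.2 he
    · intro x hx
      by_contra hxE
      have hsep : ∀ e ∈ E, ∃ O : X.Opens, e ∈ O ∧ ∀ y ∈ O, y ≠ x := by
        intro e he
        have hne : ¬ x ⤳ e := fun h => hxE (hgen h he)
        rw [specializes_iff_forall_open] at hne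
        push_neg at hne
        obtain ⟨O, hO, heO, hxO⟩ := hne
        exact ⟨⟨O, hO⟩, heO, fun y hy hyx => hxO (hyx ▸ hy)⟩
      obtain ⟨V, hV, hEV, hVx⟩ := exists_compact_open_of_notMem E hE (fun y => y ≠ x) hsep
      simp only [Set.mem_iInter] at hx
      exact hVx x (hx ⟨V, hV, hEV⟩) rfl

end Groth.Agent.H40.GQ
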