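import Groth.Agent.H40.GQ.NormOpen

/-!
# The norm along a finite locally free morphism: explicit form of `exists_norm`
-/

set_option autoImplicit false
set_option backward.isDefEq.respectTransparency.types false
universe u

open CategoryTheory CategoryTheory.Limits AlgebraicGeometry

namespace Groth.Agent.H40.GQ

open Groth.Agent.H40.FG

section

variable {X Y : Scheme.{u}} (f : X ⟶ Y) [IsFinite f] [Flat f] [LocallyOfFinitePresentation f]

/-- the norm of a function `b` on `f⁻¹ V` vanishes exactly under the zeros of `b`. -/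
theorem norm_spec {V : Y.Opens} (hV : IsAffineOpen V) {n : ℕ} (D : DualBasis (f.app V).hom n)
    (b : Γ(X, f ⁻¹ᵁ V)) (y : Y) (hy : y ∈ V) :
    y ∈ Y.basicOpen (D.nm b) ↔ ∀ x, f x = y → x ∈ X.basicOpen b := by
  have hV' : IsAffineOpen (f ⁻¹ᵁ V) := hV.preimage f
  have hcomap : ∀ (x : X) (hx : x ∈ f ⁻¹ᵁ V),
      (hV'.primeIdealOf ⟨x, hx⟩).comap (f.app V).hom = hV.primeIdealOf ⟨f x, hx⟩ := by
    intro x hx
    have := IsAffineOpen.comap_primeIdealOf_appLE (f := f) V hV (f ⁻¹ᵁ V) hV' le_rfl hx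
    rwa [← Scheme.Hom.app_eq_appLE] at this
  rw [mem_basicOpen_iff_notMem_primeIdealOf hV _ y hy]
  constructor
  · intro hg x hxy
    have hx : x ∈ f ⁻¹ᵁ V := by
      change f x ∈ V
      rw [hxy]
      exact hy
    rw [mem_basicOpen_iff_notMem_primeIdealOf hV' _ x hx]
    intro hb
    apply hg
    have h1 := D.nm_mem_comap_of_mem b _ hb
    have h2 := congrArg PrimeSpectrum.asIdeal (hcomap x hx)
    subst hxy
    rw [← h2]
    exact h1
  · intro hall hg
    letI := (f.app V).hom.toAlgebra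
    obtain ⟨q, hq, hqp, hbq⟩ := DualBasis.exists_prime_of_nm_mem (A := Γ(Y, V))
      (B := Γ(X, f ⁻¹ᵁ V)) D b (hV.primeIdealOf ⟨y, hy⟩).asIdeal hg
    obtain ⟨x, hx, hxq⟩ := exists_primeIdealOf_eq hV' ⟨q, hq⟩
    have hfx : f x = y := by
      apply primeIdealOf_injective hV (x := f x) (y := y) hx hy
      rw [← hcomap x hx, hxq]
      apply PrimeSpectrum.ext
      exact hqp
    have := hall x hfx
    rw [mem_basicOpen_iff_notMem_primeIdealOf hV' _ x hx, hxq] at this
    exact this hbq

end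

end Groth.Agent.H40.GQ
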