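import Groth.Agent.H40.GQ.LocGeo
import Groth.Agent.H40.GQ.NormSpec
import Groth.Agent.H40.GQ.InvNbhd
import Groth.Agent.H40.FG.Quot

/-!
# Comparison of the quotients of two affine finite locally free groupoids along an open immersion
-/

set_option autoImplicit false
set_option backward.isDefEq.respectTransparency.types false
universe u

open CategoryTheory CategoryTheory.Limits AlgebraicGeometry Grpd

namespace Groth.Agent.H40.GQ

open Groth.Agent.H40.FG

variable {S : Scheme.{u}} {G₁ G₂ : GroupoidScheme S}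

/-- a morphism on objects which pulls invariant functions back to invariant functions. -/
def PullsInv (G₁ G₂ : GroupoidScheme S) (fU : G₁.U ⟶ G₂.U) : Prop :=
  ∀ a ∈ G₂.invariants, fU.appTop.hom a ∈ G₁.invariants

theorem pullsInv_of_hom (fU : G₁.U ⟶ G₂.U) (fR : G₁.R ⟶ G₂.R)
    (hs : fR ≫ G₂.s = G₁.s ≫ fU) (ht : fR ≫ G₂.t = G₁.t ≫ fU) : PullsInv G₁ G₂ fU := by
  intro a ha
  change G₁.s.appTop.hom (fU.appTop.hom a) = G₁.t.appTop.hom (fU.appTop.hom a)
  have h1 : G₁.s.appTop.hom (fU.appTop.hom a) = fR.appTop.hom (G₂.s.appTop.hom a) := by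
    have := congrArg (fun φ => (Scheme.Hom.appTop φ).hom a) hs
    simp only [Scheme.Hom.comp_appTop, CommRingCat.hom_comp, RingHom.comp_apply] at this
    exact this.symm
  have h2 : G₁.t.appTop.hom (fU.appTop.hom a) = fR.appTop.hom (G₂.t.appTop.hom a) := by
    have := congrArg (fun φ => (Scheme.Hom.appTop φ).hom a) ht
    simp only [Scheme.Hom.comp_appTop, CommRingCat.hom_comp, RingHom.comp_apply] at this
    exact this.symm
  rw [h1, h2]
  exact congrArg _ ha

/-- the map on rings of invariants. -/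
noncomputable def invMap (fU : G₁.U ⟶ G₂.U) (h : PullsInv G₁ G₂ fU) :
    G₂.invariants →+* G₁.invariants :=
  (fU.appTop.hom.comp G₂.invariants.subtype).codRestrict G₁.invariants (fun a => h a.1 a.2)

@[simp] theorem invMap_coe (fU : G₁.U ⟶ G₂.U) (h : PullsInv G₁ G₂ fU) (a : G₂.invariants) :
    ((invMap fU h a : G₁.invariants) : Γ(G₁.U, ⊤)) = fU.appTop.hom a.1 := rfl

/-- the map on quotients. -/
noncomputable def quotMap (fU : G₁.U ⟶ G₂.U) (h : PullsInv G₁ G₂ fU) :
    Spec (CommRingCat.of G₁.invariants) ⟶ Spec (CommRingCat.of G₂.invariants) :=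
  Spec.map (CommRingCat.ofHom (invMap fU h))

theorem toQuot_quotMap (fU : G₁.U ⟶ G₂.U) (h : PullsInv G₁ G₂ fU) :
    G₁.toQuot ≫ quotMap fU h = fU ≫ G₂.toQuot := by
  unfold GroupoidScheme.toQuot quotMap
  rw [Category.assoc, ← Spec.map_comp, Scheme.toSpecΓ_naturality_assoc, ← Spec.map_comp]
  rfl

theorem pullsInv_id (G : GroupoidScheme S) : PullsInv G G (𝟙 G.U) := by
  intro a ha
  simpa using ha

theorem quotMap_id (G : GroupoidScheme S) (h : PullsInv G G (𝟙 G.U)) : quotMap (𝟙 G.U) h = 𝟙 _ := by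
  unfold quotMap
  rw [← Spec.map_id]
  congr 1

theorem pullsInv_comp {G₃ : GroupoidScheme S} (fU : G₁.U ⟶ G₂.U) (gU : G₂.U ⟶ G₃.U)
    (hf : PullsInv G₁ G₂ fU) (hg : PullsInv G₂ G₃ gU) : PullsInv G₁ G₃ (fU ≫ gU) := by
  intro a ha
  have := hf _ (hg a ha)
  simpa using this

theorem quotMap_comp {G₃ : GroupoidScheme S} (fU : G₁.U ⟶ G₂.U) (gU : G₂.U ⟶ G₃.U)
    (hf : PullsInv G₁ G₂ fU) (hg : PullsInv G₂ G₃ gU) (hfg : PullsInv G₁ G₃ (fU ≫ gU)) :
    quotMap (fU ≫ gU) hfg = quotMap fU hf ≫ quotMap gU hg := by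
  unfold quotMap
  rw [← Spec.map_comp]
  congr 1

end Groth.Agent.H40.GQ
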