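import Groth.Agent.H40.GQ.Compare

/-!
# The comparison map of quotients is an open immersion
-/

set_option autoImplicit false
set_option backward.isDefEq.respectTransparency.types false
universe u

open CategoryTheory CategoryTheory.Limits AlgebraicGeometry Grpd

namespace Groth.Agent.H40.GQ

open Groth.Agent.H40.FG

variable {S : Scheme.{u}} {G₁ G₂ : GroupoidScheme S}

section Norm

variable (G : GroupoidScheme S) [IsAffine G.U] [IsAffine G.R]
  [IsFinite G.s] [Flat G.s] [LocallyOfFinitePresentation G.s]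

/-- an invariant function whose non-vanishing locus is a neighbourhood of `x` inside a given
invariant open. -/
theorem exists_invariant_basicOpen (x : G.U) (O : G.U.Opens) (hO : IsInv G O) (hx : x ∈ O) :
    ∃ c ∈ G.invariants, x ∈ G.U.basicOpen c ∧ G.U.basicOpen c ≤ O := by
  have hT : {y | Orb G x y} ⊆ (O : Set G.U) := fun y hy => (hO.mem_iff hy).mp hx
  obtain ⟨b, hbO, hbT⟩ := exists_basicOpen_le_of_finite (isAffineOpen_top G.U) O {y | Orb G x y}
    (finite_orbit x) (fun _ _ => trivial) hT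
  obtain ⟨n, ⟨D⟩⟩ := exists_dualBasis_σ G
  have hspec : ∀ u : G.U, u ∈ G.U.basicOpen (D.nm (τ G b)) ↔ ∀ r, G.s r = u → G.t r ∈ G.U.basicOpen b := by
    intro u
    have h1 := norm_spec G.s (isAffineOpen_top G.U) (n := n) D (τ G b) u trivial
    refine h1.trans ?_
    have h2 : G.R.basicOpen (τ G b) = G.t ⁻¹ᵁ G.U.basicOpen b :=
      (Scheme.preimage_basicOpen_top G.t b).symm
    have h3 : ∀ r : G.R, r ∈ G.R.basicOpen (τ G b) ↔ G.t r ∈ G.U.basicOpen b := by
      intro r
      rw [h2]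
      rfl
    constructor
    · intro h r hr
      exact (h3 r).mp (h r hr)
    · intro h r hr
      exact (h3 r).mpr (h r hr)
  refine ⟨D.nm (τ G b), nm_invariant G D b, ?_, ?_⟩
  · rw [hspec]
    intro r hr
    exact hbT ⟨r, hr, rfl⟩
  · intro u hu
    rw [hspec] at hu
    have := hu (G.e u) (by rw [← Scheme.Hom.comp_apply, G.e_s]; rfl)
    rw [← Scheme.Hom.comp_apply, G.e_t] at this
    exact hbO this

end Norm

section Main

variable [IsAffine G₁.U] [IsAffine G₁.R] [IsAffine G₂.U] [IsAffine G₂.R]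
  [IsFinite G₁.s] [Flat G₁.s] [LocallyOfFinitePresentation G₁.s]
  [IsFinite G₂.s] [Flat G₂.s] [LocallyOfFinitePresentation G₂.s]
  (fU : G₁.U ⟶ G₂.U) (fR : G₁.R ⟶ G₂.R) [IsOpenImmersion fU] [IsOpenImmersion fR]
  (hs : fR ≫ G₂.s = G₁.s ≫ fU) (ht : fR ≫ G₂.t = G₁.t ≫ fU)
  (hr : G₂.s ⁻¹ᵁ fU.opensRange ≤ fR.opensRange) (hinv : IsInv G₂ fU.opensRange)

include hs ht hr in
theorem orb_of_orb (x y : G₁.U) (h : Orb G₂ (fU x) (fU y)) : Orb G₁ x y := by
  obtain ⟨r₂, h1, h2⟩ := h
  have hr₂ : r₂ ∈ fR.opensRange := by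
    apply hr
    change G₂.s r₂ ∈ fU.opensRange
    rw [h1]
    exact ⟨x, rfl⟩
  obtain ⟨r₁, rfl⟩ := hr₂
  refine ⟨r₁, ?_, ?_⟩
  · apply fU.isOpenEmbedding.injective
    rw [← Scheme.Hom.comp_apply, ← hs, Scheme.Hom.comp_apply]
    exact h1
  · apply fU.isOpenEmbedding.injective
    rw [← Scheme.Hom.comp_apply, ← ht, Scheme.Hom.comp_apply]
    exact h2

include hs ht hr in
theorem quotMap_injective (h : PullsInv G₁ G₂ fU) : Function.Injective (quotMap fU h) := by
  intro y y' hyy'
  obtain ⟨x, rfl⟩ := toQuot_surjective G₁ y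
  obtain ⟨x', rfl⟩ := toQuot_surjective G₁ y'
  rw [← Scheme.Hom.comp_apply, ← Scheme.Hom.comp_apply, toQuot_quotMap, Scheme.Hom.comp_apply,
    Scheme.Hom.comp_apply, toQuot_eq_iff] at hyy'
  obtain ⟨r, h1, h2⟩ := hyy'
  obtain ⟨r₁, h3, h4⟩ := orb_of_orb fU fR hs ht hr x' x ⟨r, h2, h1⟩
  rw [toQuot_eq_iff]
  exact ⟨r₁, h4, h3⟩

include hs ht hr hinv in
theorem isOpenImmersion_quotMap (h : PullsInv G₁ G₂ fU) : IsOpenImmersion (quotMap fU h) := by
  apply IsOpenImmersion.of_forall_source_exists _ (quotMap_injective fU fR hs ht hr h)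
  intro y
  obtain ⟨x, rfl⟩ := toQuot_surjective G₁ y
  obtain ⟨c, hcinv, hxc, hcU⟩ := exists_invariant_basicOpen G₂ (fU x) fU.opensRange hinv ⟨x, rfl⟩
  let cc : G₂.invariants := ⟨c, hcinv⟩
  have hcR : G₂.R.basicOpen (σ G₂ c) ≤ fR.opensRange := by
    rw [← Scheme.preimage_basicOpen_top G₂.s c]
    exact le_trans (fun r hr => hcU hr) hr
  let ρ := invMap fU h
  let L := Localization.Away (ρ cc)
  letI algL : Algebra G₂.invariants L := ((algebraMap G₁.invariants L).comp ρ).toAlgebra
  have hloc : IsLocalization.Away cc L := by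
    apply isLocalization_away_of_surj_inj ρ cc (fun _ => rfl)
    · intro z
      obtain ⟨n, a', ha', hn⟩ := exists_invariant_lift (σ G₂) (τ G₂) (σ G₁) (τ G₁) fU.appTop.hom
        fR.appTop.hom (fun a => by
          have := congrArg (fun φ => (Scheme.Hom.appTop φ).hom a) hs
          simp only [Scheme.Hom.comp_appTop, CommRingCat.hom_comp, RingHom.comp_apply] at this
          exact this) (fun a => by
          have := congrArg (fun φ => (Scheme.Hom.appTop φ).hom a) ht
          simp only [Scheme.Hom.comp_appTop, CommRingCat.hom_comp, RingHom.comp_apply] at this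
          exact this) c hcinv (exists_pow_mul_eq_appTop fU c hcU)
        (exists_pow_mul_eq_zero fR (σ G₂ c) hcR) z.1 z.2
      refine ⟨n, ⟨a', ha'⟩, ?_⟩
      apply Subtype.ext
      exact hn
    · intro z hz
      obtain ⟨n, hn⟩ := exists_pow_mul_eq_zero fU c hcU z.1 (congrArg Subtype.val hz)
      exact ⟨n, Subtype.ext hn⟩
  refine ⟨Spec (CommRingCat.of L), Spec.map (CommRingCat.ofHom (algebraMap G₁.invariants L)),
    inferInstance, ?_, ?_⟩
  · have h1 : (Spec.map (CommRingCat.ofHom (algebraMap G₁.invariants L))).opensRange =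
        PrimeSpectrum.basicOpen (ρ cc) :=
      Scheme.Hom.opensRange_localizationAway (R := CommRingCat.of G₁.invariants) (ρ cc)
    rw [h1]
    change x ∈ G₁.toQuot ⁻¹ᵁ (PrimeSpectrum.basicOpen (ρ cc))
    unfold GroupoidScheme.toQuot
    rw [Scheme.Hom.comp_preimage, SpecMap_preimage_basicOpen, Scheme.toSpecΓ_preimage_basicOpen]
    change x ∈ G₁.U.basicOpen (fU.appTop.hom c)
    rw [← Scheme.preimage_basicOpen_top fU c]
    exact hxc
  · have h2 : Spec.map (CommRingCat.ofHom (algebraMap G₁.invariants L)) ≫ quotMap fU h =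
        Spec.map (CommRingCat.ofHom (algebraMap G₂.invariants L)) := by
      unfold quotMap
      rw [← Spec.map_comp]
      rfl
    rw [h2]
    exact IsOpenImmersion.of_isLocalization cc

end Main

end Groth.Agent.H40.GQ
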