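import Groth.Agent.H40.GQ.GlueMono

/-!
# Auxiliary facts for the statements about quotients of finite locally free groupoids
-/

set_option autoImplicit false
set_option backward.isDefEq.respectTransparency.types false
universe u

open CategoryTheory CategoryTheory.Limits AlgebraicGeometry Grpd

namespace Groth.Agent.H40.GQ

open Groth.Agent.H40.FG

variable {S : Scheme.{u}} (G : GroupoidScheme S)

/-- if every orbit lies in an affine open, then invariant affine opens cover. -/
theorem covers_of_orbits [IsFinite G.s] [Flat G.s] [LocallyOfFinitePresentation G.s]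
    (hb : ∀ x : G.U, ∃ V : G.U.Opens, IsAffineOpen V ∧ ∀ r : G.R, G.s r = x → G.t r ∈ V) :
    Covers G := by
  intro x
  obtain ⟨V, hV, hx⟩ := hb x
  obtain ⟨W, hWa, hxW, -, hWinv⟩ := exists_invariant_affine_nbhd G x V ⊤ hV (fun y hy => by
    obtain ⟨r, h1, h2⟩ := hy
    exact ⟨h2 ▸ hx r h1, trivial⟩)
  exact ⟨⟨W, hWa, hWinv⟩, hxW⟩

/-- if every nonempty closed subset contains a point whose orbit lies in an affine open, then
invariant affine opens cover. -/
theorem covers_of_closed [IsFinite G.s] [Flat G.s] [LocallyOfFinitePresentation G.s]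
    (h3 : ∀ Z : Set G.U, IsClosed Z → Z.Nonempty →
      ∃ u ∈ Z, ∃ W : G.U.Opens, IsAffineOpen W ∧ ∀ r : G.R, G.s r = u → G.t r ∈ W) :
    Covers G := by
  let U₀ : G.U.Opens := ⨆ W : J G, W.1
  by_contra hne
  have hZ : ((U₀ : Set G.U)ᶜ).Nonempty := by
    by_contra hempty
    apply hne
    intro x
    have hx : x ∈ U₀ := by
      by_contra hx
      exact hempty ⟨x, hx⟩
    obtain ⟨W, hW⟩ := TopologicalSpace.Opens.mem_iSup.mp hx
    exact ⟨W, hW⟩
  obtain ⟨u, huZ, V, hV, hu⟩ := h3 _ U₀.isOpen.isClosed_compl hZ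
  obtain ⟨W, hWa, hxW, -, hWinv⟩ := exists_invariant_affine_nbhd G u V ⊤ hV (fun y hy => by
    obtain ⟨r, h1, h2⟩ := hy
    exact ⟨h2 ▸ hu r h1, trivial⟩)
  apply huZ
  exact TopologicalSpace.Opens.mem_iSup.mpr ⟨⟨W, hWa, hWinv⟩, hxW⟩

/-- `j` is a monomorphism when `(t, s)` is jointly injective on points over `S`. -/
theorem mono_j_of_injective
    (hinj : ∀ (T : Over S) (r r' : T ⟶ Over.mk G.pR),
      r ≫ (Over.homMk G.t G.t_over : Over.mk G.pR ⟶ Over.mk G.pU) =
        r' ≫ (Over.homMk G.t G.t_over : Over.mk G.pR ⟶ Over.mk G.pU) →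
      r ≫ (Over.homMk G.s G.s_over : Over.mk G.pR ⟶ Over.mk G.pU) =
        r' ≫ (Over.homMk G.s G.s_over : Over.mk G.pR ⟶ Over.mk G.pU) → r = r') :
    Mono G.j := by
  constructor
  intro T r r' h
  have ht : r ≫ G.t = r' ≫ G.t := by
    have := congrArg (· ≫ pullback.fst _ _) h
    simpa only [GroupoidScheme.j, Category.assoc, pullback.lift_fst] using this
  have hs : r ≫ G.s = r' ≫ G.s := by
    have := congrArg (· ≫ pullback.snd _ _) h
    simpa only [GroupoidScheme.j, Category.assoc, pullback.lift_snd] using this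
  have hp : r' ≫ G.pR = r ≫ G.pR := by
    rw [← G.t_over, ← Category.assoc, ← ht, Category.assoc]
  have := hinj (Over.mk (r ≫ G.pR)) (Over.homMk r rfl) (Over.homMk r' hp)
    (by ext; simpa using ht) (by ext; simpa using hs)
  exact congrArg CommaMorphism.left this

end Groth.Agent.H40.GQ
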