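import Groth.Agent.H40.GQ.GlueProps2
import Groth.Agent.H40.GQ.AffTarget

/-!
# The chart quotient maps are epimorphisms of schemes
-/

set_option autoImplicit false
set_option backward.isDefEq.respectTransparency.types false
universe u

open CategoryTheory CategoryTheory.Limits AlgebraicGeometry Grpd

namespace Groth.Agent.H40.GQ

open Groth.Agent.H40.FG

variable {S : Scheme.{u}} {G : GroupoidScheme S}

theorem isInv_preimage_of_invariant (H : GroupoidScheme S) {Z : Scheme.{u}} (g : H.U ⟶ Z)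
    (hg : H.t ≫ g = H.s ≫ g) (V : Z.Opens) : IsInv H (g ⁻¹ᵁ V) := by
  change H.s ⁻¹ᵁ (g ⁻¹ᵁ V) = H.t ⁻¹ᵁ (g ⁻¹ᵁ V)
  rw [← Scheme.Hom.comp_preimage, ← Scheme.Hom.comp_preimage, hg]

theorem rG_s_val (W : J G) (r : (rG W).R) : ((rG W).s r).1 = G.s r.1 :=
  congrArg (fun φ => (Scheme.Hom.toLRSHom φ).base r) (restrict_s_ι G W.1 W.2.2)

theorem rG_t_val (W : J G) (r : (rG W).R) : ((rG W).t r).1 = G.t r.1 :=
  congrArg (fun φ => (Scheme.Hom.toLRSHom φ).base r) (restrict_t_ι G W.1 W.2.2)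

/-- an open of a chart domain invariant under the restricted groupoid is invariant under `G`. -/
theorem isInv_image (W : J G) (N : W.1.toScheme.Opens) (hN : IsInv (rG W) N) :
    IsInv G (W.1.ι ''ᵁ N) := by
  apply isInv_iff.mpr
  intro r
  have key : ∀ r' : (rG W).R, (rG W).s r' ∈ N ↔ (rG W).t r' ∈ N := isInv_iff.mp hN
  constructor
  · rintro ⟨x', hx', hx'r⟩
    have hr : r ∈ G.s ⁻¹ᵁ W.1 := by
      change G.s r ∈ W.1
      rw [← hx'r]
      exact x'.2
    have h1 : (rG W).s ⟨r, hr⟩ = x' := Subtype.ext ((rG_s_val W ⟨r, hr⟩).trans hx'r.symm)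
    have h2 : (rG W).t ⟨r, hr⟩ ∈ N := (key ⟨r, hr⟩).mp (h1 ▸ hx')
    exact ⟨_, h2, rG_t_val W ⟨r, hr⟩⟩
  · rintro ⟨x', hx', hx'r⟩
    have hr : r ∈ G.s ⁻¹ᵁ W.1 := by
      change G.s r ∈ W.1
      have : G.t r ∈ W.1 := by
        rw [← hx'r]
        exact x'.2
      exact (isInv_iff.mp W.2.2 r).mpr this
    have h1 : (rG W).t ⟨r, hr⟩ = x' := Subtype.ext ((rG_t_val W ⟨r, hr⟩).trans hx'r.symm)
    have h2 : (rG W).s ⟨r, hr⟩ ∈ N := (key ⟨r, hr⟩).mpr (h1 ▸ hx')
    exact ⟨_, h2, rG_s_val W ⟨r, hr⟩⟩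

variable [IsFinite G.s] [Flat G.s] [LocallyOfFinitePresentation G.s]

theorem epi_chartP (W : J G) : Epi (chartP W) := by
  constructor
  intro Z h₁ h₂ e
  apply Scheme.hom_ext_of_forall
  intro m
  obtain ⟨x, rfl⟩ := chartP_surjective W m
  obtain ⟨V, hV, hzV, -⟩ := exists_isAffineOpen_mem_and_subset
    (x := (chartP W ≫ h₁) x) (U := ⊤) trivial
  have hgW : (rG W).t ≫ (chartP W ≫ h₁) = (rG W).s ≫ (chartP W ≫ h₁) := by
    rw [← Category.assoc, ← Category.assoc]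
    congr 1
    exact t_toQuot (rG W)
  have hN' : IsInv (rG W) ((chartP W ≫ h₁) ⁻¹ᵁ V) :=
    isInv_preimage_of_invariant (rG W) _ hgW V
  have hN := isInv_image W _ hN'
  obtain ⟨W'', hx'', hle, hW''W⟩ := exists_J_le W x.1 x.2 _ hN ⟨x, hzV, rfl⟩
  have hmem : ∀ x'' : W''.1, (chartP W ≫ h₁) (G.U.homOfLE hW''W x'') ∈ V := by
    intro x''
    obtain ⟨y, hy, hyx⟩ := hle x''.2
    have : y = G.U.homOfLE hW''W x'' := by
      apply Subtype.ext
      rw [Scheme.homOfLE_apply]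
      exact hyx
    rw [← this]
    exact hy
  refine ⟨(chartT hW''W).opensRange, ⟨chartP W'' ⟨x.1, hx''⟩, ?_⟩, ?_⟩
  · rw [chartT_chartP_apply]
    congr 1
    apply Subtype.ext
    rw [Scheme.homOfLE_apply]
  · rw [← cancel_epi (chartT hW''W).isoOpensRange.hom, ← Category.assoc, ← Category.assoc,
      Scheme.Hom.isoOpensRange_hom_ι]
    have hr₁ : Set.range (chartT hW''W ≫ h₁) ⊆ Set.range V.ι := by
      rintro _ ⟨m'', rfl⟩
      obtain ⟨x'', rfl⟩ := chartP_surjective W'' m''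
      rw [Scheme.Opens.range_ι, Scheme.Hom.comp_apply, chartT_chartP_apply,
        ← Scheme.Hom.comp_apply]
      exact hmem x''
    have hr₂ : Set.range (chartT hW''W ≫ h₂) ⊆ Set.range V.ι := by
      rintro _ ⟨m'', rfl⟩
      obtain ⟨x'', rfl⟩ := chartP_surjective W'' m''
      rw [Scheme.Opens.range_ι, Scheme.Hom.comp_apply, chartT_chartP_apply,
        ← Scheme.Hom.comp_apply, ← e]
      exact hmem x''
    haveI : IsAffine V.toScheme := hV
    have hk : IsOpenImmersion.lift V.ι (chartT hW''W ≫ h₁) hr₁ =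
        IsOpenImmersion.lift V.ι (chartT hW''W ≫ h₂) hr₂ := by
      apply hom_ext_toQuot_of_isAffine (rG W'')
      rw [← cancel_mono V.ι, Category.assoc, Category.assoc, IsOpenImmersion.lift_fac,
        IsOpenImmersion.lift_fac]
      change chartP W'' ≫ chartT hW''W ≫ h₁ = chartP W'' ≫ chartT hW''W ≫ h₂
      rw [chartP_chartT_assoc, chartP_chartT_assoc, e]
    have := congrArg (· ≫ V.ι) hk
    simpa only [IsOpenImmersion.lift_fac] using this

end Groth.Agent.H40.GQ
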