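import Groth.Agent.H40.GQ.Chart
import Mathlib.AlgebraicGeometry.Gluing
import Mathlib.AlgebraicGeometry.Cover.Directed

/-!
# Gluing the charts of the quotient
-/

set_option autoImplicit false
set_option backward.isDefEq.respectTransparency.types false
universe u

open CategoryTheory CategoryTheory.Limits AlgebraicGeometry Grpd

namespace Groth.Agent.H40.GQ

open Groth.Agent.H40.FG

variable {S : Scheme.{u}} {G : GroupoidScheme S}

theorem quotMap_congr {G₁ G₂ : GroupoidScheme S} {fU fU' : G₁.U ⟶ G₂.U} (e : fU = fU')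
    (h : PullsInv G₁ G₂ fU) (h' : PullsInv G₁ G₂ fU') : quotMap fU h = quotMap fU' h' := by
  subst e
  rfl

theorem chartT_refl (W : J G) : chartT (le_refl W) = 𝟙 (chartM W) := by
  unfold chartT
  rw [quotMap_congr (G.U.homOfLE_rfl W.1) _ (pullsInv_id _), quotMap_id]

theorem chartT_trans {W W' W'' : J G} (h : W ≤ W') (h' : W' ≤ W'') :
    chartT (h.trans h') = chartT h ≫ chartT h' := by
  unfold chartT
  rw [← quotMap_comp (G₁ := rG W) (G₂ := rG W') (G₃ := rG W'') _ _ _ _
    (pullsInv_comp _ _ (pullsInv_homOfLE h) (pullsInv_homOfLE h'))]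
  exact quotMap_congr (G.U.homOfLE_homOfLE _ _).symm _ _

variable (G)

/-- the diagram of charts. -/
noncomputable def chartF : J G ⥤ Scheme.{u} where
  obj W := chartM W
  map f := chartT (leOfHom f)
  map_id W := chartT_refl W
  map_comp f g := chartT_trans (leOfHom f) (leOfHom g)

variable [IsFinite G.s] [Flat G.s] [LocallyOfFinitePresentation G.s]

instance {W W' : J G} (f : W ⟶ W') : IsOpenImmersion ((chartF G).map f) :=
  isOpenImmersion_chartT (leOfHom f)

variable {G}

theorem chartP_surjective (W : J G) : Function.Surjective (chartP W) :=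
  toQuot_surjective (rG W)

theorem chartP_eq_iff (W : J G) (x y : W.1) : chartP W x = chartP W y ↔ Orb G x.1 y.1 := by
  rw [← orb_restrict_iff G W.1 W.2.2]
  change (rG W).toQuot x = (rG W).toQuot y ↔ _
  rw [toQuot_eq_iff]
  constructor
  · rintro ⟨r, h1, h2⟩
    exact Orb.symm ⟨r, h2, h1⟩
  · intro h
    obtain ⟨r, h1, h2⟩ := Orb.symm h
    exact ⟨r, h2, h1⟩

theorem chartT_chartP_apply {W W' : J G} (h : W ≤ W') (x : W.1) :
    chartT h (chartP W x) = chartP W' (G.U.homOfLE h x) := by
  rw [← Scheme.Hom.comp_apply, chartP_chartT, Scheme.Hom.comp_apply]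

/-- a point of an invariant open has an invariant affine open neighbourhood inside it, as soon as
it has some invariant affine open neighbourhood. -/
theorem exists_J_le (W₀ : J G) (x : G.U) (hx : x ∈ W₀.1) (N : G.U.Opens) (hN : IsInv G N)
    (hxN : x ∈ N) : ∃ W : J G, x ∈ W.1 ∧ W.1 ≤ N ∧ W ≤ W₀ := by
  obtain ⟨W, hWa, hxW, hWle, hWinv⟩ := exists_invariant_affine_nbhd G x W₀.1 (W₀.1 ⊓ N) W₀.2.1
    (fun y hy => ⟨(W₀.2.2.mem_iff hy).mp hx, (W₀.2.2.mem_iff hy).mp hx, (hN.mem_iff hy).mp hxN⟩)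
  exact ⟨⟨W, hWa, hWinv⟩, hxW, hWle.trans inf_le_right, hWle.trans inf_le_left⟩

instance : ((chartF G) ⋙ Scheme.forget).IsLocallyDirected where
  cond {i j k} fi fj xi xj hx := by
    obtain ⟨ui, rfl⟩ := chartP_surjective i xi
    obtain ⟨uj, rfl⟩ := chartP_surjective j xj
    have hx' : chartT (leOfHom fi) (chartP i ui) = chartT (leOfHom fj) (chartP j uj) := hx
    rw [chartT_chartP_apply, chartT_chartP_apply, chartP_eq_iff, Scheme.homOfLE_apply,
      Scheme.homOfLE_apply] at hx'
    have huji : uj.1 ∈ i.1 := (i.2.2.mem_iff hx').mp ui.2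
    obtain ⟨l, hl, hlN, hlj⟩ := exists_J_le j uj.1 uj.2 (i.1 ⊓ j.1) (i.2.2.inf j.2.2) ⟨huji, uj.2⟩
    have hli : l ≤ i := hlN.trans inf_le_left
    refine ⟨l, homOfLE hli, homOfLE hlj, chartP l ⟨uj.1, hl⟩, ?_, ?_⟩
    · change chartT hli (chartP l ⟨uj.1, hl⟩) = chartP i ui
      rw [chartT_chartP_apply, chartP_eq_iff, Scheme.homOfLE_apply]
      exact Orb.symm hx'
    · change chartT hlj (chartP l ⟨uj.1, hl⟩) = chartP j uj
      rw [chartT_chartP_apply]
      congr 1
      apply Subtype.ext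
      rw [Scheme.homOfLE_apply]

variable (G)

/-- the quotient. -/
noncomputable def quotY : Scheme.{u} := colimit (chartF G)

/-- the inclusion of a chart. -/
noncomputable def chartι (W : J G) : chartM W ⟶ quotY G := colimit.ι (chartF G) W

instance (W : J G) : IsOpenImmersion (chartι G W) :=
  inferInstanceAs (IsOpenImmersion (colimit.ι (chartF G) W))

variable {G}

theorem chartT_chartι {W W' : J G} (h : W ≤ W') : chartT h ≫ chartι G W' = chartι G W :=
  colimit.w (chartF G) (homOfLE h)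

theorem chartι_eq_iff {W W' : J G} (x : chartM W) (x' : chartM W') :
    chartι G W x = chartι G W' x' ↔
      ∃ (k : J G) (h : k ≤ W) (h' : k ≤ W') (z : chartM k), chartT h z = x ∧ chartT h' z = x' := by
  refine (Scheme.IsLocallyDirected.ι_eq_ι_iff (F := chartF G) (i := W) (j := W') (xi := x)
    (xj := x')).trans ?_
  constructor
  · rintro ⟨k, fi, fj, z, h1, h2⟩
    exact ⟨k, leOfHom fi, leOfHom fj, z, h1, h2⟩
  · rintro ⟨k, h, h', z, h1, h2⟩
    exact ⟨k, homOfLE h, homOfLE h', z, h1, h2⟩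

theorem chartι_jointly_surjective (y : quotY G) : ∃ (W : J G) (x : chartM W), chartι G W x = y :=
  Scheme.IsLocallyDirected.ι_jointly_surjective (chartF G) y

end Groth.Agent.H40.GQ
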