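import Groth.Agent.H40.GQ.Glue

/-!
# The quotient map
-/

set_option autoImplicit false
set_option backward.isDefEq.respectTransparency.types false
universe u

open CategoryTheory CategoryTheory.Limits AlgebraicGeometry Grpd

namespace Groth.Agent.H40.GQ

open Groth.Agent.H40.FG

variable {S : Scheme.{u}} (G : GroupoidScheme S)

/-- every point has an invariant affine open neighbourhood. -/
def Covers : Prop := ∀ x : G.U, ∃ W : J G, x ∈ W.1

variable {G}

/-- the open cover of `U` by invariant affine opens. -/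
noncomputable def coverU (hcov : Covers G) : G.U.OpenCover where
  I₀ := J G
  X W := W.1.toScheme
  f W := W.1.ι
  mem₀ := by
    rw [Scheme.presieve₀_mem_precoverage_iff]
    refine ⟨fun x ↦ ?_, inferInstance⟩
    obtain ⟨W, hW⟩ := hcov x
    exact ⟨W, ⟨x, hW⟩, rfl⟩

instance (hcov : Covers G) : PartialOrder (coverU hcov).I₀ := inferInstanceAs (PartialOrder (J G))

variable [IsFinite G.s] [Flat G.s] [LocallyOfFinitePresentation G.s]

theorem coverU_directed (i j : J G) (x : ↥(pullback i.1.ι j.1.ι)) :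
    ∃ (k : J G) (hki : k ≤ i) (hkj : k ≤ j) (y : k.1.toScheme),
      pullback.lift (G.U.homOfLE hki) (G.U.homOfLE hkj)
        (by rw [Scheme.homOfLE_ι, Scheme.homOfLE_ι]) y = x := by
  have hx : (pullback.fst i.1.ι j.1.ι x).1 = (pullback.snd i.1.ι j.1.ι x).1 := by
    have := congrArg (fun φ => (Scheme.Hom.toLRSHom φ).base x)
      (pullback.condition (f := i.1.ι) (g := j.1.ι))
    exact this
  have hui : (pullback.fst i.1.ι j.1.ι x).1 ∈ i.1 := (pullback.fst i.1.ι j.1.ι x).2
  have huj : (pullback.fst i.1.ι j.1.ι x).1 ∈ j.1 := by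
    rw [hx]
    exact (pullback.snd i.1.ι j.1.ι x).2
  obtain ⟨k, hk, hkN, hki⟩ := exists_J_le i _ hui (i.1 ⊓ j.1) (i.2.2.inf j.2.2) ⟨hui, huj⟩
  have hkj : k ≤ j := hkN.trans inf_le_right
  refine ⟨k, hki, hkj, ⟨_, hk⟩, ?_⟩
  apply (pullback.fst i.1.ι j.1.ι ≫ i.1.ι).isOpenEmbedding.injective
  rw [← Scheme.Hom.comp_apply, pullback.lift_fst_assoc, Scheme.homOfLE_ι]
  rfl

noncomputable instance (hcov : Covers G) : Scheme.Cover.LocallyDirected (coverU hcov) where
  trans {i j} hij := G.U.homOfLE (leOfHom hij)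
  trans_id i := G.U.homOfLE_rfl _
  trans_comp hij hjk := (G.U.homOfLE_homOfLE _ _).symm
  w hij := G.U.homOfLE_ι _
  directed {i j} x := by
    obtain ⟨k, hki, hkj, y, hy⟩ := coverU_directed (G := G) i j x
    exact ⟨k, homOfLE hki, homOfLE hkj, y, hy⟩
  property_trans hij := inferInstanceAs (IsOpenImmersion (G.U.homOfLE _))

theorem quotP_aux (hcov : Covers G) {i j : (coverU hcov).I₀} (hij : i ⟶ j) :
    (coverU hcov).trans hij ≫ chartP j ≫ chartι G j = chartP i ≫ chartι G i := by
  change G.U.homOfLE (leOfHom hij) ≫ chartP j ≫ chartι G j = chartP i ≫ chartι G i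
  rw [← chartP_chartT_assoc, chartT_chartι]

/-- the quotient map. -/
noncomputable def quotP (hcov : Covers G) : G.U ⟶ quotY G :=
  (coverU hcov).glueMorphismsOfLocallyDirected (fun W => chartP W ≫ chartι G W)
    (fun hij => quotP_aux hcov hij)

theorem ι_quotP (hcov : Covers G) (W : J G) : W.1.ι ≫ quotP hcov = chartP W ≫ chartι G W :=
  (coverU hcov).map_glueMorphismsOfLocallyDirected _ (fun hij => quotP_aux hcov hij) W

theorem quotP_apply (hcov : Covers G) (W : J G) (x : W.1) :
    quotP hcov x.1 = chartι G W (chartP W x) := by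
  rw [← Scheme.Hom.comp_apply, ← ι_quotP hcov W, Scheme.Hom.comp_apply]
  rfl

end Groth.Agent.H40.GQ
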