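import Groth.Agent.H40.GQ.GlueProps2
import Groth.Agent.H40.FG.QuotFinal2

/-!
# The quotient when `j` is a monomorphism
-/

set_option autoImplicit false
set_option backward.isDefEq.respectTransparency.types false
universe u

open CategoryTheory CategoryTheory.Limits AlgebraicGeometry Grpd

namespace Groth.Agent.H40.GQ

open Groth.Agent.H40.FG

variable {S : Scheme.{u}} {G : GroupoidScheme S}
  [IsFinite G.s] [Flat G.s] [LocallyOfFinitePresentation G.s] (hcov : Covers G) [Mono G.j]

theorem hom_ext_R {T : Scheme.{u}} (r r' : T ⟶ G.R) (ht : r ≫ G.t = r' ≫ G.t)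
    (hs : r ≫ G.s = r' ≫ G.s) : r = r' := by
  rw [← cancel_mono G.j]
  unfold GroupoidScheme.j
  apply pullback.hom_ext
  · rw [Category.assoc, Category.assoc, pullback.lift_fst, ht]
  · rw [Category.assoc, Category.assoc, pullback.lift_snd, hs]

instance : IsFinite (quotP hcov) :=
  quotP_of_charts hcov @IsFinite (fun W => toQuot_isFinite (rG W))

instance : Flat (quotP hcov) :=
  quotP_of_charts hcov @Flat (fun W => toQuot_flat (rG W))

instance : LocallyOfFinitePresentation (quotP hcov) :=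
  quotP_of_charts hcov @LocallyOfFinitePresentation
    (fun W => toQuot_locallyOfFinitePresentation (rG W))

theorem exists_lift_of_quotP_eq {T : Scheme.{u}} (a b : T ⟶ G.U)
    (h : a ≫ quotP hcov = b ≫ quotP hcov) : ∃ r : T ⟶ G.R, r ≫ G.t = a ∧ r ≫ G.s = b := by
  let V : J G → T.Opens := fun W => a ⁻¹ᵁ W.1
  have hV : TopologicalSpace.IsOpenCover V := by
    apply TopologicalSpace.IsOpenCover.mk
    rw [eq_top_iff]
    intro x _
    obtain ⟨W, hW⟩ := hcov (a x)
    exact TopologicalSpace.Opens.mem_iSup.mpr ⟨W, hW⟩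
  let 𝒱 := T.openCoverOfIsOpenCover V hV
  have hloc : ∀ W : J G, ∃ r : (V W).toScheme ⟶ G.R,
      r ≫ G.t = (V W).ι ≫ a ∧ r ≫ G.s = (V W).ι ≫ b := by
    intro W
    have ha' : Set.range ((V W).ι ≫ a) ⊆ Set.range W.1.ι := by
      rintro _ ⟨x, rfl⟩
      rw [Scheme.Opens.range_ι]
      exact x.2
    have hb' : Set.range ((V W).ι ≫ b) ⊆ Set.range W.1.ι := by
      rintro _ ⟨x, rfl⟩
      rw [Scheme.Opens.range_ι, SetLike.mem_coe, ← quotP_preimage_range hcov W]
      change quotP hcov (((V W).ι ≫ b) x) ∈ (chartι G W).opensRange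
      rw [← Scheme.Hom.comp_apply, Category.assoc, ← h, ← Category.assoc, Scheme.Hom.comp_apply]
      have hx : ((V W).ι ≫ a) x ∈ W.1 := x.2
      exact ⟨chartP W ⟨_, hx⟩, (quotP_apply hcov W ⟨_, hx⟩).symm⟩
    let a' := IsOpenImmersion.lift W.1.ι _ ha'
    let b' := IsOpenImmersion.lift W.1.ι _ hb'
    have hab : a' ≫ (rG W).toQuot = b' ≫ (rG W).toQuot := by
      rw [← cancel_mono (chartι G W), Category.assoc, Category.assoc]
      change a' ≫ chartP W ≫ chartι G W = b' ≫ chartP W ≫ chartι G W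
      rw [← ι_quotP hcov W, IsOpenImmersion.lift_fac_assoc, IsOpenImmersion.lift_fac_assoc,
        Category.assoc, Category.assoc, h]
    have hpb := isPullback_ts (rG W)
    refine ⟨hpb.lift a' b' hab ≫ (G.s ⁻¹ᵁ W.1).ι, ?_, ?_⟩
    · rw [Category.assoc, ← restrict_t_ι G W.1 W.2.2, ← Category.assoc, hpb.lift_fst]
      exact IsOpenImmersion.lift_fac _ _ _
    · rw [Category.assoc, ← restrict_s_ι G W.1 W.2.2, ← Category.assoc, hpb.lift_snd]
      exact IsOpenImmersion.lift_fac _ _ _
  choose r hr1 hr2 using hloc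
  have hcompat : ∀ W W' : 𝒱.I₀, pullback.fst (𝒱.f W) (𝒱.f W') ≫ r W =
      pullback.snd (𝒱.f W) (𝒱.f W') ≫ r W' := by
    intro (W : J G) (W' : J G)
    change pullback.fst (V W).ι (V W').ι ≫ r W = pullback.snd (V W).ι (V W').ι ≫ r W'
    apply hom_ext_R
    · rw [Category.assoc, Category.assoc, hr1, hr1]
      exact pullback.condition_assoc _
    · rw [Category.assoc, Category.assoc, hr2, hr2]
      exact pullback.condition_assoc _
  refine ⟨𝒱.glueMorphisms r hcompat, ?_, ?_⟩
  · apply 𝒱.hom_ext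
    intro (W : J G)
    rw [← Category.assoc, 𝒱.ι_glueMorphisms]
    exact hr1 W
  · apply 𝒱.hom_ext
    intro (W : J G)
    rw [← Category.assoc, 𝒱.ι_glueMorphisms]
    exact hr2 W

theorem isPullback_quotP : IsPullback G.t G.s (quotP hcov) (quotP hcov) := by
  refine ⟨⟨t_quotP hcov⟩, ⟨PullbackCone.IsLimit.mk _
    (fun c => (exists_lift_of_quotP_eq hcov c.fst c.snd c.condition).choose) ?_ ?_ ?_⟩⟩
  · intro c
    exact (exists_lift_of_quotP_eq hcov c.fst c.snd c.condition).choose_spec.1
  · intro c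
    exact (exists_lift_of_quotP_eq hcov c.fst c.snd c.condition).choose_spec.2
  · intro c m h1 h2
    apply hom_ext_R
    · rw [h1, (exists_lift_of_quotP_eq hcov c.fst c.snd c.condition).choose_spec.1]
    · rw [h2, (exists_lift_of_quotP_eq hcov c.fst c.snd c.condition).choose_spec.2]

end Groth.Agent.H40.GQ
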