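import Groth.Agent.H40.GQ.GlueMap
import Mathlib.AlgebraicGeometry.Morphisms.Integral
import Mathlib.AlgebraicGeometry.Morphisms.UniversallyOpen

/-!
# Properties of the quotient map
-/

set_option autoImplicit false
set_option backward.isDefEq.respectTransparency.types false
universe u

open CategoryTheory CategoryTheory.Limits AlgebraicGeometry Grpd

namespace Groth.Agent.H40.GQ

open Groth.Agent.H40.FG

variable {S : Scheme.{u}} {G : GroupoidScheme S}
  [IsFinite G.s] [Flat G.s] [LocallyOfFinitePresentation G.s] (hcov : Covers G)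

theorem quotP_preimage_range (W : J G) : quotP hcov ⁻¹ᵁ (chartι G W).opensRange = W.1 := by
  ext x
  constructor
  · rintro ⟨m, hm⟩
    obtain ⟨W', hW'⟩ := hcov x
    have h1 : quotP hcov x = chartι G W' (chartP W' ⟨x, hW'⟩) := quotP_apply hcov W' ⟨x, hW'⟩
    rw [h1] at hm
    obtain ⟨k, hk, hk', z, hz, hz'⟩ := (chartι_eq_iff _ _).mp hm
    obtain ⟨xk, rfl⟩ := chartP_surjective k z
    rw [chartT_chartP_apply, chartP_eq_iff, Scheme.homOfLE_apply] at hz'
    exact (W.2.2.mem_iff hz').mp (hk xk.2)
  · intro hx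
    exact ⟨chartP W ⟨x, hx⟩, (quotP_apply hcov W ⟨x, hx⟩).symm⟩

theorem isPullback_chart (W : J G) : IsPullback (chartP W) W.1.ι (chartι G W) (quotP hcov) :=
  IsOpenImmersion.isPullback _ _ _ _ (ι_quotP hcov W) (by
    rw [quotP_preimage_range, Scheme.Opens.opensRange_ι])

theorem quotP_eq_iff (x y : G.U) : quotP hcov x = quotP hcov y ↔ Orb G x y := by
  obtain ⟨W, hW⟩ := hcov x
  constructor
  · intro h
    have hy : y ∈ W.1 := by
      rw [← quotP_preimage_range hcov W]
      change quotP hcov y ∈ (chartι G W).opensRange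
      rw [← h]
      exact ⟨chartP W ⟨x, hW⟩, (quotP_apply hcov W ⟨x, hW⟩).symm⟩
    rw [quotP_apply hcov W ⟨x, hW⟩, quotP_apply hcov W ⟨y, hy⟩] at h
    have := (chartι G W).isOpenEmbedding.injective h
    exact (chartP_eq_iff W _ _).mp this
  · intro h
    have hy : y ∈ W.1 := (W.2.2.mem_iff h).mp hW
    rw [quotP_apply hcov W ⟨x, hW⟩, quotP_apply hcov W ⟨y, hy⟩]
    congr 1
    exact (chartP_eq_iff W _ _).mpr h

theorem quotP_surjective : Function.Surjective (quotP hcov) := by
  intro y
  obtain ⟨W, m, rfl⟩ := chartι_jointly_surjective y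
  obtain ⟨x, rfl⟩ := chartP_surjective W m
  exact ⟨x.1, quotP_apply hcov W x⟩

instance : Surjective (quotP hcov) := ⟨quotP_surjective hcov⟩

/-- a property local on the target holds for the quotient map as soon as it holds on all charts. -/
theorem quotP_of_charts (P : MorphismProperty Scheme.{u}) [IsZariskiLocalAtTarget P]
    (H : ∀ W : J G, P (chartP W)) : P (quotP hcov) := by
  apply IsZariskiLocalAtTarget.of_openCover (Scheme.IsLocallyDirected.openCover (chartF G))
  intro W
  have hpb : IsPullback W.1.ι (chartP W) (quotP hcov) (chartι G W) := (isPullback_chart hcov W).flip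
  have h1 : hpb.isoPullback.hom ≫ pullback.snd (quotP hcov) (chartι G W) = chartP W :=
    hpb.isoPullback_hom_snd
  have h2 : P (hpb.isoPullback.hom ≫ pullback.snd (quotP hcov) (chartι G W)) := by
    rw [h1]
    exact H W
  exact (P.cancel_left_of_respectsIso _ _).mp h2

theorem toQuot_isIntegralHom (G : GroupoidScheme S) [IsAffine G.U] [IsAffine G.R] [IsFinite G.s]
    [Flat G.s] [LocallyOfFinitePresentation G.s] : IsIntegralHom G.toQuot := by
  haveI := isIntegral_invariants G
  unfold GroupoidScheme.toQuot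
  haveI : IsIntegralHom (Spec.map (CommRingCat.ofHom G.invariants.subtype)) := by
    rw [IsIntegralHom.SpecMap_iff]
    exact algebraMap_isIntegral_iff.mpr ‹Algebra.IsIntegral G.invariants Γ(G.U, ⊤)›
  infer_instance

instance : IsIntegralHom (quotP hcov) :=
  quotP_of_charts hcov @IsIntegralHom (fun W => toQuot_isIntegralHom (rG W))

end Groth.Agent.H40.GQ
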