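import Groth.Agent.H40.GQ.GlueProps
import Mathlib.AlgebraicGeometry.Morphisms.UniversallyClosed
import Mathlib.AlgebraicGeometry.Morphisms.IsIso

/-!
# More properties of the quotient map: openness, the kernel pair, affineness
-/

set_option autoImplicit false
set_option backward.isDefEq.respectTransparency.types false
universe u

open CategoryTheory CategoryTheory.Limits AlgebraicGeometry Grpd

namespace Groth.Agent.H40.GQ

open Groth.Agent.H40.FG

variable {S : Scheme.{u}} {G : GroupoidScheme S}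
  [IsFinite G.s] [Flat G.s] [LocallyOfFinitePresentation G.s] (hcov : Covers G)

theorem t_quotP : G.t ≫ quotP hcov = G.s ≫ quotP hcov := by
  apply Scheme.hom_ext_of_forall
  intro r
  obtain ⟨W, hW⟩ := hcov (G.s r)
  refine ⟨G.s ⁻¹ᵁ W.1, hW, ?_⟩
  have h1 : (G.s ⁻¹ᵁ W.1).ι ≫ G.t = (rG W).t ≫ W.1.ι := (restrict_t_ι G W.1 W.2.2).symm
  have h2 : (G.s ⁻¹ᵁ W.1).ι ≫ G.s = (rG W).s ≫ W.1.ι := (restrict_s_ι G W.1 W.2.2).symm
  rw [reassoc_of% h1, reassoc_of% h2, ι_quotP, ← Category.assoc, ← Category.assoc]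
  congr 1
  exact t_toQuot (rG W)

theorem quotP_isOpenMap : IsOpenMap (quotP hcov).base := by
  haveI : Flat G.t := flat_t G
  haveI : LocallyOfFinitePresentation G.t := lfp_t G
  intro A hA
  have hq : Topology.IsQuotientMap (quotP hcov).base :=
    IsClosedMap.isQuotientMap (quotP hcov).isClosedMap (quotP hcov).continuous
      (quotP_surjective hcov)
  rw [← hq.isOpen_preimage]
  have : (quotP hcov).base ⁻¹' ((quotP hcov).base '' A) = G.t.base '' (G.s.base ⁻¹' A) := by
    ext y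
    constructor
    · rintro ⟨x, hxA, hxy⟩
      obtain ⟨r, h1, h2⟩ := (quotP_eq_iff hcov x y).mp hxy
      refine ⟨r, ?_, h2⟩
      change G.s r ∈ A
      rw [h1]
      exact hxA
    · rintro ⟨r, hr, rfl⟩
      exact ⟨G.s r, hr, (quotP_eq_iff hcov _ _).mpr ⟨r, rfl, rfl⟩⟩
  rw [this]
  exact G.t.isOpenMap _ (hA.preimage G.s.continuous)

/-- geometric points of `U ×_Y U` lift to `R`. -/
theorem exists_arrow_of_quotP_eq (k : Type u) [Field k] [IsAlgClosed k]
    (a b : Spec (CommRingCat.of k) ⟶ G.U) (h : a ≫ quotP hcov = b ≫ quotP hcov) :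
    ∃ r : Spec (CommRingCat.of k) ⟶ G.R, r ≫ G.t = a ∧ r ≫ G.s = b := by
  let pt : Spec (CommRingCat.of k) := ⟨⊥, Ideal.isPrime_bot⟩
  have hpt : ∀ q : Spec (CommRingCat.of k), q = pt := fun q => Subsingleton.elim _ _
  obtain ⟨W, hW⟩ := hcov (a pt)
  have hb : b pt ∈ W.1 := by
    rw [← quotP_preimage_range hcov W]
    change quotP hcov (b pt) ∈ (chartι G W).opensRange
    rw [← Scheme.Hom.comp_apply, ← h, Scheme.Hom.comp_apply]
    exact ⟨chartP W ⟨a pt, hW⟩, (quotP_apply hcov W ⟨a pt, hW⟩).symm⟩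
  have ha' : Set.range a ⊆ Set.range W.1.ι := by
    rintro _ ⟨q, rfl⟩
    rw [hpt q, Scheme.Opens.range_ι]
    exact hW
  have hb' : Set.range b ⊆ Set.range W.1.ι := by
    rintro _ ⟨q, rfl⟩
    rw [hpt q, Scheme.Opens.range_ι]
    exact hb
  let a' := IsOpenImmersion.lift W.1.ι a ha'
  let b' := IsOpenImmersion.lift W.1.ι b hb'
  have hab : a' ≫ (rG W).toQuot = b' ≫ (rG W).toQuot := by
    rw [← cancel_mono (chartι G W), Category.assoc, Category.assoc]
    change a' ≫ chartP W ≫ chartι G W = b' ≫ chartP W ≫ chartι G W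
    rw [← ι_quotP hcov W, IsOpenImmersion.lift_fac_assoc, IsOpenImmersion.lift_fac_assoc, h]
  obtain ⟨r, hr1, hr2⟩ := exists_arrow_of_toQuot_eq (rG W) k a' b' hab
  refine ⟨r ≫ (G.s ⁻¹ᵁ W.1).ι, ?_, ?_⟩
  · rw [Category.assoc, ← restrict_t_ι G W.1 W.2.2, reassoc_of% hr1]
    exact IsOpenImmersion.lift_fac _ _ _
  · rw [Category.assoc, ← restrict_s_ι G W.1 W.2.2, reassoc_of% hr2]
    exact IsOpenImmersion.lift_fac _ _ _

theorem lift_surjective {Y : Scheme.{u}} (p : G.U ⟶ Y) (w : G.t ≫ p = G.s ≫ p)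
    (hp : ∀ (k : Type u) [Field k] [IsAlgClosed k] (a b : Spec (CommRingCat.of k) ⟶ G.U),
      a ≫ p = b ≫ p → ∃ r : Spec (CommRingCat.of k) ⟶ G.R, r ≫ G.t = a ∧ r ≫ G.s = b) :
    Function.Surjective (pullback.lift G.t G.s w).base := by
  intro z
  let κ := (pullback p p).residueField z
  let k := AlgebraicClosure κ
  let wz : Spec (CommRingCat.of k) ⟶ pullback p p :=
    Spec.map (CommRingCat.ofHom (algebraMap κ k)) ≫ (pullback p p).fromSpecResidueField z
  let pt : Spec (CommRingCat.of k) := ⟨⊥, Ideal.isPrime_bot⟩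
  have hw : wz pt = z := by
    change (Spec.map _ ≫ _) pt = z
    rw [Scheme.Hom.comp_apply, Scheme.fromSpecResidueField_apply]
  have hcond : (wz ≫ pullback.fst p p) ≫ p = (wz ≫ pullback.snd p p) ≫ p := by
    simp only [Category.assoc, pullback.condition]
  obtain ⟨r, hr1, hr2⟩ := hp k (wz ≫ pullback.fst p p) (wz ≫ pullback.snd p p) hcond
  refine ⟨r pt, ?_⟩
  have : r ≫ pullback.lift G.t G.s w = wz := by
    apply pullback.hom_ext
    · rw [Category.assoc, pullback.lift_fst, hr1]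
    · rw [Category.assoc, pullback.lift_snd, hr2]
  change (pullback.lift G.t G.s w) (r pt) = z
  rw [← Scheme.Hom.comp_apply, this, hw]

theorem quotP_lift_surjective :
    Function.Surjective (pullback.lift G.t G.s (t_quotP hcov)).base :=
  lift_surjective _ _ (fun k _ _ a b h => exists_arrow_of_quotP_eq hcov k a b h)

theorem isInv_top' (G : GroupoidScheme S) : IsInv G ⊤ := rfl

include hcov in
theorem isAffine_quotY [IsAffine G.U] : IsAffine (quotY G) := by
  let Wtop : J G := ⟨⊤, isAffineOpen_top G.U, isInv_top' G⟩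
  haveI : Surjective (chartι G Wtop) := by
    constructor
    intro y
    obtain ⟨x, rfl⟩ := quotP_surjective hcov y
    exact ⟨chartP Wtop ⟨x, trivial⟩, (quotP_apply hcov Wtop ⟨x, trivial⟩).symm⟩
  haveI : IsIso (chartι G Wtop) :=
    (isIso_iff_isOpenImmersion_and_surjective _).mpr ⟨inferInstance, inferInstance⟩
  exact IsAffine.of_isIso (inv (chartι G Wtop))

end Groth.Agent.H40.GQ
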