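import Mathlib.RingTheory.Localization.Away.Basic
import Mathlib.Algebra.Ring.Subring.Basic
import Mathlib.Algebra.Group.Subgroup.Basic
import Mathlib.Algebra.Ring.Equiv

/-!
# Ring-level lemma: invariants commute with localization at an invariant element
-/

set_option autoImplicit false
universe u

namespace Groth.Agent.H40.GQ

/-- a ring map `ρ : C' → C` which is "an isomorphism after inverting `c`" makes any localization of
`C` away from `ρ c` a localization of `C'` away from `c`. -/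
theorem isLocalization_away_of_surj_inj {C' C L : Type*} [CommRing C'] [CommRing C] [CommRing L]
    [Algebra C L] [Algebra C' L] (ρ : C' →+* C) (c : C') [IsLocalization.Away (ρ c) L]
    (hcomp : ∀ x, algebraMap C' L x = algebraMap C L (ρ x))
    (hsurj : ∀ x : C, ∃ (n : ℕ) (x' : C'), ρ c ^ n * x = ρ x')
    (hinj : ∀ x' : C', ρ x' = 0 → ∃ n : ℕ, c ^ n * x' = 0) :
    IsLocalization.Away c L := by
  have hunit : IsUnit (algebraMap C L (ρ c)) := IsLocalization.Away.algebraMap_isUnit (ρ c)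
  refine IsLocalization.Away.mk (R := C') (S := L) c ?_ ?_ ?_
  · rw [hcomp]
    exact hunit
  · intro z
    obtain ⟨k, y, hy⟩ := IsLocalization.Away.surj (ρ c) z
    obtain ⟨n, x', hx'⟩ := hsurj y
    refine ⟨n + k, x', ?_⟩
    rw [hcomp, hcomp, ← hx', map_mul, map_pow, ← hy, pow_add]
    ring
  · intro a b hab
    rw [hcomp, hcomp] at hab
    obtain ⟨k, hk⟩ := IsLocalization.Away.exists_of_eq (ρ c) hab
    have h0 : ρ (c ^ k * (a - b)) = 0 := by
      rw [map_mul, map_pow, map_sub, mul_sub, hk, sub_self]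
    obtain ⟨n, hn⟩ := hinj _ h0
    refine ⟨n + k, ?_⟩
    have : c ^ (n + k) * (a - b) = 0 := by
      rw [pow_add, mul_assoc]
      exact hn
    rw [mul_sub, sub_eq_zero] at this
    exact this

/-- the surjectivity half for rings of invariants. -/
theorem exists_invariant_lift {A' B' A B : Type*} [CommRing A'] [CommRing B'] [CommRing A]
    [CommRing B] (σ' τ' : A' →+* B') (σ τ : A →+* B) (ρA : A' →+* A) (ρB : B' →+* B)
    (hσ : ∀ a, ρB (σ' a) = σ (ρA a)) (hτ : ∀ a, ρB (τ' a) = τ (ρA a))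
    (c : A') (hc : σ' c = τ' c)
    (hAs : ∀ a : A, ∃ (n : ℕ) (a' : A'), ρA c ^ n * a = ρA a')
    (hBi : ∀ b' : B', ρB b' = 0 → ∃ n : ℕ, σ' c ^ n * b' = 0)
    (x : A) (hx : σ x = τ x) :
    ∃ (n : ℕ) (a' : A'), σ' a' = τ' a' ∧ ρA c ^ n * x = ρA a' := by
  obtain ⟨n, a', ha'⟩ := hAs x
  have h0 : ρB (σ' a' - τ' a') = 0 := by
    rw [map_sub, hσ, hτ, ← ha', map_mul, map_mul, map_pow, map_pow, hx, ← hσ, ← hτ, hc, sub_self]
  obtain ⟨m, hm⟩ := hBi _ h0
  refine ⟨m + n, c ^ m * a', ?_, ?_⟩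
  · rw [map_mul, map_mul, map_pow, map_pow, ← hc]
    rw [mul_sub, sub_eq_zero] at hm
    exact hm
  · rw [map_mul, map_pow, ← ha', pow_add, mul_assoc]

end Groth.Agent.H40.GQ
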