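import Groth.Agent.H40.GQ.Loc
import Mathlib.AlgebraicGeometry.AffineScheme

/-!
# An open immersion of affine schemes is an isomorphism after inverting a function whose
non-vanishing locus lies in the image
-/

set_option autoImplicit false
set_option backward.isDefEq.respectTransparency.types false
universe u

open CategoryTheory CategoryTheory.Limits AlgebraicGeometry TopologicalSpace

namespace Groth.Agent.H40.GQ

variable {X X' : Scheme.{u}} [IsAffine X] [IsAffine X'] (f : X ⟶ X') [IsOpenImmersion f]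
  (c : Γ(X', ⊤)) (hc : X'.basicOpen c ≤ f.opensRange)

include hc in
theorem exists_pow_mul_eq_zero (a' : Γ(X', ⊤)) (h : f.appTop.hom a' = 0) :
    ∃ n : ℕ, c ^ n * a' = 0 := by
  set V := X'.basicOpen c with hV
  haveI : IsIso (f.app V) := f.isIso_app V hc
  have hinj : Function.Injective (f.app V).hom :=
    (ConcreteCategory.bijective_of_isIso (f.app V)).1
  have hnat := f.naturality (homOfLE (le_top : V ≤ ⊤)).op
  have h0 : (X'.presheaf.map (homOfLE (le_top : V ≤ ⊤)).op).hom a' = 0 := by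
    apply hinj
    rw [map_zero]
    have := congrArg (fun φ => φ.hom a') hnat
    simp only [CommRingCat.hom_comp, RingHom.comp_apply] at this
    rw [this]
    change (X.presheaf.map _).hom (f.appTop.hom a') = 0
    rw [h, map_zero]
  haveI := isLocalization_away_of_isAffine (X := X') c
  have h1 : algebraMap Γ(X', ⊤) Γ(X', X'.basicOpen c) a' =
      algebraMap Γ(X', ⊤) Γ(X', X'.basicOpen c) 0 := by
    rw [map_zero]
    exact h0
  obtain ⟨n, hn⟩ := IsLocalization.Away.exists_of_eq c h1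
  exact ⟨n, by rw [hn, mul_zero]⟩

include hc in
theorem exists_pow_mul_eq_appTop (a : Γ(X, ⊤)) :
    ∃ (n : ℕ) (a' : Γ(X', ⊤)), f.appTop.hom c ^ n * a = f.appTop.hom a' := by
  set V := X'.basicOpen c with hV
  haveI : IsIso (f.app V) := f.isIso_app V hc
  have hsurj : Function.Surjective (f.app V).hom :=
    (ConcreteCategory.bijective_of_isIso (f.app V)).2
  have hnat := f.naturality (homOfLE (le_top : V ≤ ⊤)).op
  have hnat' : ∀ x : Γ(X', ⊤), (f.app V).hom ((X'.presheaf.map (homOfLE (le_top : V ≤ ⊤)).op).hom x) =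
      (X.presheaf.map (homOfLE (le_top : f ⁻¹ᵁ V ≤ ⊤)).op).hom (f.appTop.hom x) := by
    intro x
    have := congrArg (fun φ => φ.hom x) hnat
    simp only [CommRingCat.hom_comp, RingHom.comp_apply] at this
    exact this
  obtain ⟨a'', ha''⟩ := hsurj ((X.presheaf.map (homOfLE (le_top : f ⁻¹ᵁ V ≤ ⊤)).op).hom a)
  haveI := isLocalization_away_of_isAffine (X := X') c
  obtain ⟨n, a', hn⟩ := IsLocalization.Away.surj c a''
  have hn' : a'' * (X'.presheaf.map (homOfLE (le_top : V ≤ ⊤)).op).hom c ^ n =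
      (X'.presheaf.map (homOfLE (le_top : V ≤ ⊤)).op).hom a' := hn
  have h2 := congrArg (f.app V).hom hn'
  rw [map_mul, map_pow, hnat', hnat', ha'', ← map_pow, ← map_mul] at h2
  -- now use that `Γ(X, f⁻¹V)` is the localization of `Γ(X, ⊤)` away from `f♯ c`
  have e : f ⁻¹ᵁ V = X.basicOpen (f.appTop.hom c) := Scheme.preimage_basicOpen_top f c
  letI : Algebra Γ(X, ⊤) Γ(X, f ⁻¹ᵁ V) :=
    (X.presheaf.map (homOfLE (le_top : f ⁻¹ᵁ V ≤ ⊤)).op).hom.toAlgebra
  haveI : IsLocalization.Away (f.appTop.hom c) Γ(X, f ⁻¹ᵁ V) :=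
    (isAffineOpen_top X).isLocalization_of_eq_basicOpen (f.appTop.hom c)
      (homOfLE (le_top : f ⁻¹ᵁ V ≤ ⊤)) e
  have h3 : algebraMap Γ(X, ⊤) Γ(X, f ⁻¹ᵁ V) (a * f.appTop.hom c ^ n) =
      algebraMap Γ(X, ⊤) Γ(X, f ⁻¹ᵁ V) (f.appTop.hom a') := h2
  obtain ⟨m, hm⟩ := IsLocalization.Away.exists_of_eq (f.appTop.hom c) h3
  refine ⟨m + n, c ^ m * a', ?_⟩
  rw [map_mul, map_pow, ← hm, pow_add]
  ring

end Groth.Agent.H40.GQ
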