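import Groth.Agent.H40.FG.LocalCore
import Groth.Agent.H40.FG.NormBC

/-!
# The norm of a finite projective algebra and prime ideals

`D.nm b ∈ p` iff `b` lies in some prime of `B` over `p`.
-/

set_option autoImplicit false
set_option backward.isDefEq.respectTransparency.types false
universe u

open Matrix Polynomial TensorProduct

namespace Groth.Agent.H40.FG

namespace DualBasis

variable {A B : Type u} [CommRing A] [CommRing B] {f : A →+* B} {n : ℕ} (D : DualBasis f n)

theorem one_add_mat_mulVec (b x : B) :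
    (1 + D.mat (b - 1)).mulVec (D.vec x) = D.vec (b * x) := by
  rw [Matrix.add_mulVec, Matrix.one_mulVec, D.mat_mulVec, ← D.vec_add]
  congr 1
  ring

theorem aeval_one_add_mat_mulVec (b x : B) (q : A[X]) :
    (aeval (1 + D.mat (b - 1)) q).mulVec (D.vec x) = D.vec (eval₂ f b q * x) := by
  induction q using Polynomial.induction_on' with
  | add p q hp hq =>
    rw [map_add, Matrix.add_mulVec, hp, hq, eval₂_add, add_mul, D.vec_add]
  | monomial m a =>
    rw [aeval_monomial, eval₂_monomial, ← Algebra.smul_def, Matrix.smul_mulVec, mul_assoc,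
      D.vec_smul]
    congr 1
    induction m generalizing x with
    | zero => simp
    | succ m ih =>
      rw [pow_succ, ← Matrix.mulVec_mulVec, D.one_add_mat_mulVec, ih, pow_succ, mul_assoc]

theorem eval₂_charpoly_one_add_mat (b : B) : eval₂ f b (1 + D.mat (b - 1)).charpoly = 0 := by
  have h := D.aeval_one_add_mat_mulVec b 1 (1 + D.mat (b - 1)).charpoly
  rw [Matrix.aeval_self_charpoly, Matrix.zero_mulVec, mul_one] at h
  exact D.vec_injective (h.symm.trans D.vec_zero.symm)

/-- the norm of `b` is a multiple of `b`. -/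
theorem map_nm_mem_span (b : B) : f (D.nm b) ∈ Ideal.span {b} := by
  set χ := (1 + D.mat (b - 1)).charpoly with hχ
  have h0 := D.eval₂_charpoly_one_add_mat b
  rw [← hχ, ← Polynomial.divX_mul_X_add χ, eval₂_add, eval₂_mul, eval₂_X, eval₂_C] at h0
  have h1 : f (χ.coeff 0) = -(eval₂ f b χ.divX * b) := eq_neg_of_add_eq_zero_right h0
  have h2 : D.nm b = (-1) ^ Fintype.card (Fin n) * χ.coeff 0 :=
    Matrix.det_eq_sign_charpoly_coeff _
  rw [h2, map_mul, h1]
  refine Ideal.mul_mem_left _ _ ?_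
  rw [neg_mem_iff]
  exact Ideal.mul_mem_left _ _ (Ideal.mem_span_singleton_self b)

theorem nm_mem_comap_of_mem (b : B) (q : Ideal B) (hb : b ∈ q) : D.nm b ∈ q.comap f := by
  rw [Ideal.mem_comap]
  exact (Ideal.span_le.mpr (Set.singleton_subset_iff.mpr hb)) (D.map_nm_mem_span b)

end DualBasis

section

variable {A B : Type u} [CommRing A] [CommRing B] [Algebra A B] {n : ℕ}
  (D : DualBasis (algebraMap A B) n)

/-- if the norm of `b` lies in a prime `p`, then `b` lies in a prime of `B` over `p`. -/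
theorem DualBasis.exists_prime_of_nm_mem (b : B) (p : Ideal A) [p.IsPrime] (h : D.nm b ∈ p) :
    ∃ q : Ideal B, q.IsPrime ∧ q.comap (algebraMap A B) = p ∧ b ∈ q := by
  let κ := p.ResidueField
  obtain ⟨D', hc, hg⟩ := DualBasis.exists_fibre D κ
  have hnm : D'.nm ((1 : κ) ⊗ₜ[A] b) = algebraMap A κ (D.nm b) :=
    DualBasis.nm_baseChange (algebraMap A κ)
      (Algebra.TensorProduct.includeRight : B →ₐ[A] κ ⊗[A] B).toRingHom D D' hg hc b
  have h0 : D'.nm ((1 : κ) ⊗ₜ[A] b) = 0 := by
    rw [hnm]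
    exact (Ideal.algebraMap_residueField_eq_zero).mpr h
  have hnu : ¬ IsUnit ((1 : κ) ⊗ₜ[A] b : κ ⊗[A] B) := by
    rintro ⟨u, hu⟩
    have h1 : D'.nm (u : κ ⊗[A] B) * D'.nm ((u⁻¹ : (κ ⊗[A] B)ˣ) : κ ⊗[A] B) = 1 := by
      rw [← D'.nm_mul, Units.mul_inv, D'.nm_one]
    rw [hu, h0, zero_mul] at h1
    exact zero_ne_one h1
  obtain ⟨m, hm, hbm⟩ := exists_max_ideal_of_mem_nonunits hnu
  refine ⟨m.comap (Algebra.TensorProduct.includeRight : B →ₐ[A] κ ⊗[A] B).toRingHom,
    Ideal.comap_isPrime _ _, ?_, hbm⟩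
  ext a
  rw [Ideal.mem_comap, Ideal.mem_comap]
  have e : (Algebra.TensorProduct.includeRight : B →ₐ[A] κ ⊗[A] B).toRingHom (algebraMap A B a) =
      algebraMap κ (κ ⊗[A] B) (algebraMap A κ a) := by
    have := (Algebra.TensorProduct.includeRight : B →ₐ[A] κ ⊗[A] B).commutes a
    rw [IsScalarTower.algebraMap_apply A κ (κ ⊗[A] B)] at this
    exact this
  rw [e]
  constructor
  · intro ha
    by_contra hap
    have hne : algebraMap A κ a ≠ 0 := fun h0 =>
      hap ((Ideal.algebraMap_residueField_eq_zero).mp h0)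
    have hu : IsUnit (algebraMap κ (κ ⊗[A] B) (algebraMap A κ a)) :=
      (IsUnit.mk0 _ hne).map _
    exact hm.ne_top (Ideal.eq_top_of_isUnit_mem _ ha hu)
  · intro ha
    rw [(Ideal.algebraMap_residueField_eq_zero).mpr ha, map_zero]
    exact zero_mem _

end

end Groth.Agent.H40.FG
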