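import Groth.Agent.H40.FG.Groupoid
import Mathlib.AlgebraicGeometry.PullbackCarrier
import Mathlib.AlgebraicGeometry.Morphisms.Finite
import Mathlib.AlgebraicGeometry.Morphisms.QuasiFinite

/-!
# Orbits of points under a groupoid scheme; invariant opens
-/

set_option autoImplicit false
set_option backward.isDefEq.respectTransparency.types false
universe u

open CategoryTheory CategoryTheory.Limits AlgebraicGeometry Grpd

namespace Groth.Agent.H40.GQ

open Groth.Agent.H40.FG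

variable {S : Scheme.{u}} (G : GroupoidScheme S)

/-- `y` is in the orbit of `x`: there is an arrow from `x` to `y`. -/
def Orb (x y : G.U) : Prop := ∃ r : G.R, G.s r = x ∧ G.t r = y

theorem orb_refl (x : G.U) : Orb G x x := by
  refine ⟨G.e x, ?_, ?_⟩
  · rw [← Scheme.Hom.comp_apply, G.e_s]
    rfl
  · rw [← Scheme.Hom.comp_apply, G.e_t]
    rfl

variable {G}

theorem Orb.symm {x y : G.U} (h : Orb G x y) : Orb G y x := by
  obtain ⟨r, h1, h2⟩ := h
  refine ⟨G.i r, ?_, ?_⟩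
  · rw [← Scheme.Hom.comp_apply, G.i_s, h2]
  · rw [← Scheme.Hom.comp_apply, G.i_t, h1]

theorem Orb.trans {x y z : G.U} (h : Orb G x y) (h' : Orb G y z) : Orb G x z := by
  obtain ⟨r, h1, h2⟩ := h
  obtain ⟨r', h1', h2'⟩ := h'
  obtain ⟨w, hw1, hw2⟩ := Scheme.Pullback.exists_preimage_pullback (f := G.s) (g := G.t) r' r
    (h1'.trans h2.symm)
  refine ⟨G.c w, ?_, ?_⟩
  · rw [← Scheme.Hom.comp_apply, c_s, Scheme.Hom.comp_apply, hw2, h1]
  · rw [← Scheme.Hom.comp_apply, c_t, Scheme.Hom.comp_apply, hw1, h2']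

variable (G)

/-- an open of `U` is invariant if its preimages under `s` and `t` agree. -/
def IsInv (W : G.U.Opens) : Prop := G.s ⁻¹ᵁ W = G.t ⁻¹ᵁ W

variable {G}

theorem isInv_iff {W : G.U.Opens} : IsInv G W ↔ ∀ r : G.R, G.s r ∈ W ↔ G.t r ∈ W := by
  unfold IsInv
  rw [TopologicalSpace.Opens.ext_iff, Set.ext_iff]
  rfl

theorem IsInv.mem_iff {W : G.U.Opens} (hW : IsInv G W) {x y : G.U} (h : Orb G x y) :
    x ∈ W ↔ y ∈ W := by
  obtain ⟨r, rfl, rfl⟩ := h
  exact isInv_iff.mp hW r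

theorem isInv_of_forall {W : G.U.Opens} (h : ∀ x y, Orb G x y → x ∈ W → y ∈ W) : IsInv G W := by
  rw [isInv_iff]
  intro r
  exact ⟨h _ _ ⟨r, rfl, rfl⟩, h _ _ (Orb.symm ⟨r, rfl, rfl⟩)⟩

theorem IsInv.inf {W W' : G.U.Opens} (hW : IsInv G W) (hW' : IsInv G W') : IsInv G (W ⊓ W') := by
  rw [isInv_iff] at *
  intro r
  exact and_congr (hW r) (hW' r)

variable (G)

/-- the largest invariant open contained in `O`: points whose whole orbit lies in `O`. -/
def core [IsFinite G.s] (O : G.U.Opens) : G.U.Opens :=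
  ⟨(G.s '' (G.t ⁻¹' ((O : Set G.U)ᶜ)))ᶜ,
    (G.s.isClosedMap _ (O.isOpen.isClosed_compl.preimage G.t.continuous)).isOpen_compl⟩

variable {G}

theorem mem_core [IsFinite G.s] {O : G.U.Opens} {x : G.U} :
    x ∈ core G O ↔ ∀ y, Orb G x y → y ∈ O := by
  change x ∉ G.s '' (G.t ⁻¹' ((O : Set G.U)ᶜ)) ↔ _
  constructor
  · rintro h y ⟨r, rfl, rfl⟩
    by_contra hy
    exact h ⟨r, hy, rfl⟩
  · rintro h ⟨r, hr, rfl⟩
    exact hr (h _ ⟨r, rfl, rfl⟩)

theorem core_le [IsFinite G.s] (O : G.U.Opens) : core G O ≤ O := fun x hx =>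
  mem_core.mp hx x (orb_refl G x)

theorem isInv_core [IsFinite G.s] (O : G.U.Opens) : IsInv G (core G O) := by
  apply isInv_of_forall
  intro x y hxy hx
  rw [mem_core] at hx ⊢
  intro z hyz
  exact hx z (hxy.trans hyz)

theorem finite_orbit [IsFinite G.s] (x : G.U) : {y | Orb G x y}.Finite := by
  have h : (G.s ⁻¹' {x}).Finite := IsFinite.finite_preimage_singleton G.s x
  refine (h.image G.t).subset ?_
  rintro y ⟨r, h1, h2⟩
  exact ⟨r, h1, h2⟩

end Groth.Agent.H40.GQ
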