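import Groth.Agent.H40.GQ.CoeqMono
import Groth.Agent.H40.GQ.Coeq
import Groth.Agent.H40.GQ.CoversOfClosed
import Groth.Agent.H40.FlatDesc

/-!
# Quotient of a groupoid scheme admitting a quasi-section (SGA 3, V, 6.1): abstract part

`G'` is a groupoid on `U'`, fully faithful over `u : U' ⟶ U` (every arrow of `G` between points of
`U'` comes from `G'`), finite locally free with quotient `Y`; and the arrows of `G` with target in
`U'` form an fppf covering `v` of `U`.  Then `Y` is also the quotient of `U` by `G`.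
-/

set_option autoImplicit false
set_option backward.isDefEq.respectTransparency.types false
universe u

open CategoryTheory CategoryTheory.Limits AlgebraicGeometry Grpd

namespace Groth.Agent.H40.GQ

open Groth.Agent.H6 Groth.Agent.H40.FG

variable {S : Scheme.{u}}

/-- a "fully faithful" morphism of groupoid schemes (only the part of the structure needed). -/
structure FullHom (G' G : GroupoidScheme S) where
  u : G'.U ⟶ G.U
  ρ : G'.R ⟶ G.R
  ρ_s : ρ ≫ G.s = G'.s ≫ u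
  ρ_t : ρ ≫ G.t = G'.t ≫ u
  exists_lift : ∀ {T : Scheme.{u}} (α : T ⟶ G.R) (a b : T ⟶ G'.U), α ≫ G.t = a ≫ u →
    α ≫ G.s = b ≫ u → ∃ β : T ⟶ G'.R, β ≫ G'.t = a ∧ β ≫ G'.s = b

namespace FullHom

variable {G' G : GroupoidScheme S} (F : FullHom G' G)

/-- arrows of `G` with target in `U'`. -/
noncomputable abbrev V : Scheme.{u} := pullback G.t F.u

/-- the source map on `V`. -/
noncomputable def v : F.V ⟶ G.U := pullback.fst G.t F.u ≫ G.s

/-- the target map on `V`. -/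
noncomputable abbrev tV : F.V ⟶ G'.U := pullback.snd G.t F.u

/-- a point of `V`. -/
noncomputable def mkV {T : Scheme.{u}} (f : T ⟶ G.R) (a : T ⟶ G'.U) (h : f ≫ G.t = a ≫ F.u) :
    T ⟶ F.V := pullback.lift f a h

@[reassoc (attr := simp)]
theorem mkV_v {T : Scheme.{u}} (f : T ⟶ G.R) (a : T ⟶ G'.U) (h : f ≫ G.t = a ≫ F.u) :
    F.mkV f a h ≫ F.v = f ≫ G.s := by
  unfold mkV v
  rw [pullback.lift_fst_assoc]

@[reassoc (attr := simp)]
theorem mkV_tV {T : Scheme.{u}} (f : T ⟶ G.R) (a : T ⟶ G'.U) (h : f ≫ G.t = a ≫ F.u) :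
    F.mkV f a h ≫ F.tV = a := by
  unfold mkV
  rw [pullback.lift_snd]

variable [IsFinite G'.s] [Flat G'.s] [LocallyOfFinitePresentation G'.s] (hcov : Covers G')

/-- two arrows with the same source and targets in `U'`: the targets have the same image in the
quotient of `U'`. -/
theorem quotP_eq_of_arrows {T : Scheme.{u}} (f g : T ⟶ G.R) (a b : T ⟶ G'.U)
    (hf : f ≫ G.t = a ≫ F.u) (hg : g ≫ G.t = b ≫ F.u) (hs : f ≫ G.s = g ≫ G.s) :
    a ≫ quotP hcov = b ≫ quotP hcov := by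
  have h1 : f ≫ G.s = (g ≫ G.i) ≫ G.t := by rw [Category.assoc, G.i_t, hs]
  obtain ⟨β, hβ1, hβ2⟩ := F.exists_lift (GrpdCalc.comp G f (g ≫ G.i) h1) a b
    (by rw [GrpdCalc.comp_t, hf]) (by rw [GrpdCalc.comp_s, Category.assoc, G.i_s, hg])
  rw [← hβ1, ← hβ2, Category.assoc, Category.assoc, t_quotP hcov]

variable [IsFinite F.v] [Flat F.v] [Surjective F.v]

instance : QuasiCompact F.v := inferInstance

instance : EffectiveEpi F.v := inferInstance

omit [IsFinite F.v] [Flat F.v] [Surjective F.v] in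
theorem tV_quotP_eq {Z : Scheme.{u}} (g₁ g₂ : Z ⟶ F.V) (h : g₁ ≫ F.v = g₂ ≫ F.v) :
    g₁ ≫ F.tV ≫ quotP hcov = g₂ ≫ F.tV ≫ quotP hcov := by
  rw [← Category.assoc, ← Category.assoc]
  refine F.quotP_eq_of_arrows hcov (g₁ ≫ pullback.fst G.t F.u) (g₂ ≫ pullback.fst G.t F.u) _ _
    ?_ ?_ ?_
  · rw [Category.assoc, Category.assoc, pullback.condition]
  · rw [Category.assoc, Category.assoc, pullback.condition]
  · simpa only [v, Category.assoc] using h

/-- the quotient map `U ⟶ Y`. -/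
noncomputable def qsP : G.U ⟶ quotY G' :=
  EffectiveEpi.desc F.v (F.tV ≫ quotP hcov) (fun g₁ g₂ h => F.tV_quotP_eq hcov g₁ g₂ h)

@[reassoc]
theorem v_qsP : F.v ≫ F.qsP hcov = F.tV ≫ quotP hcov := EffectiveEpi.fac _ _ _

/-- computing `qsP` on a point through an arrow to `U'`. -/
theorem qsP_of_arrow {T : Scheme.{u}} (x : T ⟶ G.U) (f : T ⟶ G.R) (a : T ⟶ G'.U)
    (hs : f ≫ G.s = x) (ht : f ≫ G.t = a ≫ F.u) : x ≫ F.qsP hcov = a ≫ quotP hcov := by
  rw [← hs, ← F.mkV_v f a ht, Category.assoc, v_qsP, F.mkV_tV_assoc]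

@[reassoc]
theorem u_qsP : F.u ≫ F.qsP hcov = quotP hcov := by
  have := F.qsP_of_arrow hcov F.u (F.u ≫ G.e) (𝟙 _)
    (by rw [Category.assoc, G.e_s, Category.comp_id])
    (by rw [Category.assoc, G.e_t, Category.comp_id, Category.id_comp])
  rw [this, Category.id_comp]

theorem t_qsP_aux {T : Scheme.{u}} (r f : T ⟶ G.R) (a : T ⟶ G'.U) (hfs : f ≫ G.s = r ≫ G.s)
    (hft : f ≫ G.t = a ≫ F.u) : r ≫ G.t ≫ F.qsP hcov = r ≫ G.s ≫ F.qsP hcov := by
  have h1 : f ≫ G.s = (r ≫ G.i) ≫ G.t := by rw [Category.assoc, G.i_t, hfs]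
  have e1 : (r ≫ G.s) ≫ F.qsP hcov = a ≫ quotP hcov := F.qsP_of_arrow hcov _ f a hfs hft
  have e2 : (r ≫ G.t) ≫ F.qsP hcov = a ≫ quotP hcov :=
    F.qsP_of_arrow hcov _ (GrpdCalc.comp G f (r ≫ G.i) h1) a
      (by rw [GrpdCalc.comp_s, Category.assoc, G.i_s]) (by rw [GrpdCalc.comp_t, hft])
  rw [← Category.assoc, ← Category.assoc, e1, e2]

theorem t_qsP : G.t ≫ F.qsP hcov = G.s ≫ F.qsP hcov := by
  haveI : QuasiCompact (pullback.snd F.v G.s) := inferInstance
  haveI : EffectiveEpi (pullback.snd F.v G.s) := inferInstance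
  rw [← cancel_epi (pullback.snd F.v G.s)]
  refine F.t_qsP_aux hcov _ (pullback.fst F.v G.s ≫ pullback.fst G.t F.u)
    (pullback.fst F.v G.s ≫ F.tV) ?_ ?_
  · have := pullback.condition (f := F.v) (g := G.s)
    rw [← this, Category.assoc]
    rfl
  · rw [Category.assoc, Category.assoc, pullback.condition]

instance : Surjective (F.qsP hcov) := by
  haveI : Surjective (F.u ≫ F.qsP hcov) := by rw [u_qsP]; infer_instance
  exact Surjective.of_comp F.u (F.qsP hcov)

theorem epi_quotP : Epi (quotP hcov) :=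
  Cofork.IsColimit.epi (isColimitQuotP hcov)

instance : Epi (F.qsP hcov) := by
  haveI := epi_quotP hcov
  haveI : Epi (F.u ≫ F.qsP hcov) := by rw [u_qsP]; infer_instance
  exact epi_of_epi F.u (F.qsP hcov)

/-- `qsP` is a coequalizer of `(t, s)`. -/
noncomputable def isColimitQsP : IsColimit (Cofork.ofπ (F.qsP hcov) (F.t_qsP hcov)) :=
  Cofork.IsColimit.mk _
    (fun c => quotDesc hcov (F.u ≫ c.π) (by
      rw [← reassoc_of% F.ρ_t, ← reassoc_of% F.ρ_s, c.condition]))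
    (fun c => by
      rw [← cancel_epi F.v]
      change F.v ≫ F.qsP hcov ≫ _ = F.v ≫ c.π
      rw [F.v_qsP_assoc hcov, quotP_quotDesc]
      unfold v
      rw [Category.assoc, ← c.condition, pullback.condition_assoc])
    (fun c m hm => by
      apply quotDesc_unique
      rw [← hm, ← F.u_qsP_assoc hcov]
      rfl)

/-- fppf-locally, every point of `U` is the source of an arrow with target in `U'`. -/
theorem exists_arrow_to {T : Scheme.{u}} (x : T ⟶ G.U) :
    ∃ (T₁ : Scheme.{u}) (c : T₁ ⟶ T) (f : T₁ ⟶ G.R) (a : T₁ ⟶ G'.U),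
      IsFinite c ∧ Flat c ∧ Surjective c ∧ f ≫ G.s = c ≫ x ∧ f ≫ G.t = a ≫ F.u := by
  refine ⟨pullback F.v x, pullback.snd F.v x, pullback.fst F.v x ≫ pullback.fst G.t F.u,
    pullback.fst F.v x ≫ F.tV, inferInstance, inferInstance, inferInstance, ?_, ?_⟩
  · have := pullback.condition (f := F.v) (g := x)
    rw [← this, Category.assoc]
    rfl
  · rw [Category.assoc, Category.assoc, pullback.condition]

/-- fppf-locally, two points of `U` are sources of arrows with target in `U'`. -/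
theorem exists_arrows_to {T : Scheme.{u}} (x y : T ⟶ G.U) :
    ∃ (T₂ : Scheme.{u}) (c : T₂ ⟶ T) (f g : T₂ ⟶ G.R) (a b : T₂ ⟶ G'.U),
      IsFinite c ∧ Flat c ∧ Surjective c ∧ f ≫ G.s = c ≫ x ∧ f ≫ G.t = a ≫ F.u ∧
        g ≫ G.s = c ≫ y ∧ g ≫ G.t = b ≫ F.u := by
  obtain ⟨T₁, c₁, f, a, h1, h2, h3, hfs, hft⟩ := F.exists_arrow_to x
  obtain ⟨T₂, c₂, g, b, h1', h2', h3', hgs, hgt⟩ := F.exists_arrow_to (c₁ ≫ y)
  refine ⟨T₂, c₂ ≫ c₁, c₂ ≫ f, g, c₂ ≫ a, b, inferInstance, inferInstance, inferInstance, ?_, ?_,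
    ?_, hgt⟩
  · rw [Category.assoc, hfs, Category.assoc]
  · rw [Category.assoc, hft, Category.assoc]
  · rw [hgs, Category.assoc]

/-- two points of `U` with the same image in `Y` are, locally for a surjective family, joined by an
arrow. -/
theorem exists_arrow_of_qsP_eq {T : Scheme.{u}} (x y : T ⟶ G.U)
    (h : x ≫ F.qsP hcov = y ≫ F.qsP hcov) :
    ∃ (T' : Scheme.{u}) (c : T' ⟶ T) (r : T' ⟶ G.R), Surjective c ∧ r ≫ G.t = c ≫ x ∧
      r ≫ G.s = c ≫ y := by
  obtain ⟨T₂, c, f, g, a, b, -, -, hc, hfs, hft, hgs, hgt⟩ := F.exists_arrows_to x y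
  have hab : a ≫ quotP hcov = b ≫ quotP hcov := by
    rw [← F.qsP_of_arrow hcov _ f a hfs hft, ← F.qsP_of_arrow hcov _ g b hgs hgt, Category.assoc,
      Category.assoc, h]
  -- the point of `U' ×_Y U'`
  let z : T₂ ⟶ pullback (quotP hcov) (quotP hcov) := pullback.lift a b hab
  let l : G'.R ⟶ pullback (quotP hcov) (quotP hcov) := pullback.lift G'.t G'.s (t_quotP hcov)
  haveI : Surjective l := ⟨quotP_lift_surjective hcov⟩
  let T₃ := pullback l z
  let c₃ : T₃ ⟶ T₂ := pullback.snd l z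
  let r' : T₃ ⟶ G'.R := pullback.fst l z
  have hr't : r' ≫ G'.t = c₃ ≫ a := by
    have := congrArg (· ≫ pullback.fst _ _) (pullback.condition (f := l) (g := z))
    simpa only [l, z, Category.assoc, pullback.lift_fst] using this
  have hr's : r' ≫ G'.s = c₃ ≫ b := by
    have := congrArg (· ≫ pullback.snd _ _) (pullback.condition (f := l) (g := z))
    simpa only [l, z, Category.assoc, pullback.lift_snd] using this
  -- `r = f⁻¹ ∘ ρ r' ∘ g`
  have h1 : (r' ≫ F.ρ) ≫ G.s = (c₃ ≫ g) ≫ G.t := by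
    rw [Category.assoc, F.ρ_s, reassoc_of% hr's, Category.assoc, hgt]
  have h2 : ((c₃ ≫ f) ≫ G.i) ≫ G.s = GrpdCalc.comp G (r' ≫ F.ρ) (c₃ ≫ g) h1 ≫ G.t := by
    rw [GrpdCalc.comp_t]
    simp only [Category.assoc, G.i_s]
    rw [F.ρ_t, reassoc_of% hr't, hft]
  refine ⟨T₃, c₃ ≫ c, GrpdCalc.comp G ((c₃ ≫ f) ≫ G.i) (GrpdCalc.comp G (r' ≫ F.ρ) (c₃ ≫ g) h1) h2,
    inferInstance, ?_, ?_⟩
  · rw [GrpdCalc.comp_t, Category.assoc, G.i_t, Category.assoc, hfs, Category.assoc]
  · rw [GrpdCalc.comp_s, GrpdCalc.comp_s, Category.assoc, hgs, Category.assoc]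

/-- `R ⟶ U ×_Y U` is surjective. -/
theorem qsP_lift_surjective :
    Function.Surjective (pullback.lift G.t G.s (F.t_qsP hcov)).base := by
  intro z
  let T := Spec ((pullback (F.qsP hcov) (F.qsP hcov)).residueField z)
  let wz : T ⟶ pullback (F.qsP hcov) (F.qsP hcov) := Scheme.fromSpecResidueField _ z
  obtain ⟨T', c, r, hc, hrt, hrs⟩ := F.exists_arrow_of_qsP_eq hcov (wz ≫ pullback.fst _ _)
    (wz ≫ pullback.snd _ _) (by rw [Category.assoc, Category.assoc, pullback.condition])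
  have hne : Nonempty T := inferInstance
  obtain ⟨t'⟩ := hne
  obtain ⟨t'', -⟩ := c.surjective t'
  refine ⟨r t'', ?_⟩
  have : r ≫ pullback.lift G.t G.s (F.t_qsP hcov) = c ≫ wz := by
    apply pullback.hom_ext
    · rw [Category.assoc, pullback.lift_fst, hrt, Category.assoc]
    · rw [Category.assoc, pullback.lift_snd, hrs, Category.assoc]
  change (pullback.lift G.t G.s (F.t_qsP hcov)) (r t'') = z
  rw [← Scheme.Hom.comp_apply, this, Scheme.Hom.comp_apply]
  exact Scheme.fromSpecResidueField_apply _ _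

/-- the fibres of `qsP` are the orbits. -/
theorem qsP_eq_iff (x y : G.U) : F.qsP hcov x = F.qsP hcov y ↔ Orb G x y := by
  constructor
  · intro h
    obtain ⟨z, hz1, hz2⟩ := Scheme.Pullback.exists_preimage_pullback x y h
    obtain ⟨r, rfl⟩ := F.qsP_lift_surjective hcov z
    refine Orb.symm ⟨r, ?_, ?_⟩
    · rw [← hz2, ← Scheme.Hom.comp_apply, pullback.lift_snd]
    · rw [← hz1, ← Scheme.Hom.comp_apply, pullback.lift_fst]
  · rintro ⟨r, rfl, rfl⟩
    rw [← Scheme.Hom.comp_apply, ← Scheme.Hom.comp_apply, t_qsP]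

/-- `qsP` is open when `t` is. -/
theorem qsP_isOpenMap (ht : IsOpenMap G.t.base) : IsOpenMap (F.qsP hcov).base := by
  intro W hW
  have key : (quotP hcov).base ⁻¹' ((F.qsP hcov).base '' W) =
      F.u.base ⁻¹' (G.t.base '' (G.s.base ⁻¹' W)) := by
    ext x'
    simp only [Set.mem_preimage, Set.mem_image]
    constructor
    · rintro ⟨x, hxW, hx⟩
      have h1 : F.qsP hcov x = F.qsP hcov (F.u x') := by
        rw [← Scheme.Hom.comp_apply F.u, u_qsP]
        exact hx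
      obtain ⟨r, hr1, hr2⟩ := (F.qsP_eq_iff hcov _ _).mp h1
      exact ⟨r, by rw [hr1]; exact hxW, hr2⟩
    · rintro ⟨r, hr1, hr2⟩
      refine ⟨G.s r, hr1, ?_⟩
      have h1 : F.qsP hcov (G.s r) = F.qsP hcov (F.u x') :=
        (F.qsP_eq_iff hcov _ _).mpr ⟨r, rfl, hr2⟩
      rw [← Scheme.Hom.comp_apply F.u, u_qsP] at h1
      exact h1
  have hopen : IsOpen ((quotP hcov).base ⁻¹' ((F.qsP hcov).base '' W)) := by
    rw [key]
    exact (ht _ (hW.preimage G.s.continuous)).preimage F.u.continuous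
  have := quotP_isOpenMap hcov _ hopen
  rwa [Set.image_preimage_eq _ (quotP_surjective hcov)] at this

/-- `qsP` is universally closed when `t` is. -/
theorem qsP_universallyClosed [UniversallyClosed G.t] : UniversallyClosed (F.qsP hcov) := by
  haveI : UniversallyClosed (F.v ≫ F.qsP hcov) := by
    rw [v_qsP]
    infer_instance
  exact UniversallyClosed.of_comp_surjective F.v (F.qsP hcov)

omit [IsFinite G'.s] [Flat G'.s] [LocallyOfFinitePresentation G'.s] [IsFinite F.v] [Flat F.v]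
  [Surjective F.v] in
theorem hom_ext_R' [Mono G.j] {T : Scheme.{u}} (r r' : T ⟶ G.R) (ht : r ≫ G.t = r' ≫ G.t)
    (hs : r ≫ G.s = r' ≫ G.s) : r = r' := by
  rw [← cancel_mono G.j]
  unfold GroupoidScheme.j
  apply pullback.hom_ext
  · rw [Category.assoc, Category.assoc, pullback.lift_fst, ht]
  · rw [Category.assoc, Category.assoc, pullback.lift_snd, hs]

section Mono

variable [Mono G.j] [Mono G'.j]

theorem exists_lift_of_qsP_eq {T : Scheme.{u}} (x y : T ⟶ G.U)
    (h : x ≫ F.qsP hcov = y ≫ F.qsP hcov) : ∃ r : T ⟶ G.R, r ≫ G.t = x ∧ r ≫ G.s = y := by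
  obtain ⟨T₂, c, f, g, a, b, hc1, hc2, hc3, hfs, hft, hgs, hgt⟩ := F.exists_arrows_to x y
  have hab : a ≫ quotP hcov = b ≫ quotP hcov := by
    rw [← F.qsP_of_arrow hcov _ f a hfs hft, ← F.qsP_of_arrow hcov _ g b hgs hgt, Category.assoc,
      Category.assoc, h]
  obtain ⟨r', hr't, hr's⟩ := exists_lift_of_quotP_eq hcov a b hab
  have h1 : (r' ≫ F.ρ) ≫ G.s = g ≫ G.t := by
    rw [Category.assoc, F.ρ_s, reassoc_of% hr's, hgt]
  have h2 : (f ≫ G.i) ≫ G.s = GrpdCalc.comp G (r' ≫ F.ρ) g h1 ≫ G.t := by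
    rw [GrpdCalc.comp_t]
    simp only [Category.assoc, G.i_s]
    rw [F.ρ_t, reassoc_of% hr't, hft]
  set r₂ := GrpdCalc.comp G (f ≫ G.i) (GrpdCalc.comp G (r' ≫ F.ρ) g h1) h2 with hr₂
  have hr₂t : r₂ ≫ G.t = c ≫ x := by
    rw [hr₂, GrpdCalc.comp_t, Category.assoc, G.i_t, hfs]
  have hr₂s : r₂ ≫ G.s = c ≫ y := by
    rw [hr₂, GrpdCalc.comp_s, GrpdCalc.comp_s, hgs]
  haveI : QuasiCompact c := inferInstance
  haveI : EffectiveEpi c := inferInstance
  have hdesc : ∀ {Z : Scheme.{u}} (g₁ g₂ : Z ⟶ T₂), g₁ ≫ c = g₂ ≫ c → g₁ ≫ r₂ = g₂ ≫ r₂ := by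
    intro Z g₁ g₂ hg
    apply hom_ext_R'
    · rw [Category.assoc, Category.assoc, hr₂t, reassoc_of% hg]
    · rw [Category.assoc, Category.assoc, hr₂s, reassoc_of% hg]
  refine ⟨EffectiveEpi.desc c r₂ hdesc, ?_, ?_⟩
  · rw [← cancel_epi c, ← Category.assoc, EffectiveEpi.fac, hr₂t]
  · rw [← cancel_epi c, ← Category.assoc, EffectiveEpi.fac, hr₂s]

theorem isPullback_qsP : IsPullback G.t G.s (F.qsP hcov) (F.qsP hcov) := by
  refine ⟨⟨F.t_qsP hcov⟩, ⟨PullbackCone.IsLimit.mk _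
    (fun c => (F.exists_lift_of_qsP_eq hcov c.fst c.snd c.condition).choose) ?_ ?_ ?_⟩⟩
  · intro c
    exact (F.exists_lift_of_qsP_eq hcov c.fst c.snd c.condition).choose_spec.1
  · intro c
    exact (F.exists_lift_of_qsP_eq hcov c.fst c.snd c.condition).choose_spec.2
  · intro c m h1 h2
    apply hom_ext_R'
    · rw [h1, (F.exists_lift_of_qsP_eq hcov c.fst c.snd c.condition).choose_spec.1]
    · rw [h2, (F.exists_lift_of_qsP_eq hcov c.fst c.snd c.condition).choose_spec.2]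

theorem qsP_flat [Flat G.t] : Flat (F.qsP hcov) := by
  haveI : Flat (F.v ≫ F.qsP hcov) := by
    rw [v_qsP]
    infer_instance
  exact Groth.Agent.H40.flat_of_flat_comp F.v (F.qsP hcov)

end Mono

end FullHom

end Groth.Agent.H40.GQ
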