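import Groth.Agent.H40.GQ.RestrictMono
import Groth.Agent.H40.GQ.QSecAbs

/-!
# Quotient of a groupoid scheme admitting a quasi-section (SGA 3, V, 6.1)
-/

set_option autoImplicit false
set_option backward.isDefEq.respectTransparency.types false
universe u

open CategoryTheory CategoryTheory.Limits AlgebraicGeometry Grpd

namespace Groth.Agent.H40.GQ

open Groth.Agent.H6 Groth.Agent.H40.FG RM

variable {S : Scheme.{u}} (G : GroupoidScheme S) {U' : Scheme.{u}} (u : U' ⟶ G.U) [Mono u]

theorem isPullback_s' : IsPullback (pullback.fst (v G u) u) (s' G u) (v G u) u :=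
  IsPullback.of_hasPullback _ _

theorem isFinite_restrictMono_s [IsFinite (v G u)] : IsFinite (restrictMono G u).s :=
  MorphismProperty.of_isPullback (isPullback_s' G u) ‹_›

theorem flat_restrictMono_s [Flat (v G u)] : Flat (restrictMono G u).s :=
  MorphismProperty.of_isPullback (isPullback_s' G u) ‹_›

theorem lfp_restrictMono_s [LocallyOfFinitePresentation (v G u)] :
    LocallyOfFinitePresentation (restrictMono G u).s :=
  MorphismProperty.of_isPullback (isPullback_s' G u) ‹_›

/-- orbits of the restricted groupoid are orbits of the original one. -/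
theorem orb_of_orb_restrictMono {x y : U'} (h : Orb (restrictMono G u) x y) : Orb G (u x) (u y) := by
  obtain ⟨r, h1, h2⟩ := h
  refine ⟨ρ G u r, ?_, ?_⟩
  · rw [← Scheme.Hom.comp_apply, ρ_s, Scheme.Hom.comp_apply]
    exact congrArg u h1
  · rw [← Scheme.Hom.comp_apply, ρ_t, Scheme.Hom.comp_apply]
    exact congrArg u h2

/-- the invariant affine opens cover `U'` under the hypothesis of a quasi-section. -/
theorem covers_restrictMono [IsFinite (v G u)] [Flat (v G u)]
    [LocallyOfFinitePresentation (v G u)]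
    (h2 : ∀ E : Set U', (∀ x ∈ E, ∀ y ∈ E, ∃ r : G.R, G.t.base r = u.base x ∧ G.s.base r = u.base y) →
      ∃ W : U'.Opens, IsAffineOpen W ∧ E ⊆ (W : Set U')) :
    Covers (restrictMono G u) := by
  haveI := isFinite_restrictMono_s G u
  haveI := flat_restrictMono_s G u
  haveI := lfp_restrictMono_s G u
  apply covers_of_orbits
  intro x
  obtain ⟨W, hW, hE⟩ := h2 {y | Orb G (u x) (u y)} (by
    intro y hy z hz
    obtain ⟨r, h1, h2⟩ := (Orb.symm hz).trans hy
    exact ⟨r, h2, h1⟩)
  refine ⟨W, hW, fun r hr => hE ?_⟩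
  have := orb_of_orb_restrictMono G u (x := x) (y := (restrictMono G u).t r) ⟨r, hr, rfl⟩
  exact this

/-- the restriction along a monomorphism is fully faithful. -/
noncomputable def fullHomRestrictMono : FullHom (restrictMono G u) G where
  u := u
  ρ := ρ G u
  ρ_s := ρ_s G u
  ρ_t := ρ_t G u
  exists_lift α a b ha hb := ⟨RM.lift G u α a b ha hb, lift_t' _ _ _ _ _, lift_s' _ _ _ _ _⟩

theorem fullHomRestrictMono_v : (fullHomRestrictMono G u).v = pullback.fst G.t u ≫ G.s := rfl

theorem mono_j_of_hom_ext (G : GroupoidScheme S)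
    (h : ∀ {T : Scheme.{u}} (r r' : T ⟶ G.R), r ≫ G.t = r' ≫ G.t → r ≫ G.s = r' ≫ G.s → r = r') :
    Mono G.j := by
  constructor
  intro T r r' hj
  have ht : r ≫ G.t = r' ≫ G.t := by
    have := congrArg (· ≫ pullback.fst _ _) hj
    simpa only [GroupoidScheme.j, Category.assoc, pullback.lift_fst] using this
  have hs : r ≫ G.s = r' ≫ G.s := by
    have := congrArg (· ≫ pullback.snd _ _) hj
    simpa only [GroupoidScheme.j, Category.assoc, pullback.lift_snd] using this
  exact h r r' ht hs

theorem mono_j_restrictMono [Mono G.j] : Mono (restrictMono G u).j := by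
  apply mono_j_of_hom_ext
  intro T r r' ht hs
  rw [← cancel_mono (ρ G u)]
  apply FullHom.hom_ext_R' (G := G)
  · rw [Category.assoc, Category.assoc, ρ_t]
    exact congrArg (· ≫ u) ht
  · rw [Category.assoc, Category.assoc, ρ_s]
    exact congrArg (· ≫ u) hs

/-- **SGA 3, V, Théorème 6.1**: quotient by a groupoid admitting a quasi-section. -/
theorem exists_quotient_of_quasiSection
    (h1 : (IsFinite (pullback.fst G.t u ≫ G.s) ∧ Flat (pullback.fst G.t u ≫ G.s) ∧
      LocallyOfFinitePresentation (pullback.fst G.t u ≫ G.s)) ∧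
      Surjective (pullback.fst G.t u ≫ G.s))
    (h2 : ∀ E : Set U', (∀ x ∈ E, ∀ y ∈ E, ∃ r : G.R, G.t.base r = u.base x ∧ G.s.base r = u.base y) →
      ∃ W : U'.Opens, IsAffineOpen W ∧ E ⊆ (W : Set U')) :
    ∃ (Y : Scheme.{u}) (p : G.U ⟶ Y) (w : G.t ≫ p = G.s ≫ p),
      Nonempty (IsColimit (Cofork.ofπ p w)) ∧ Surjective p ∧
      (IsOpenMap G.t.base → IsOpenMap p.base) ∧ (UniversallyClosed G.t → UniversallyClosed p) ∧
      Function.Surjective (pullback.lift G.t G.s w).base ∧
      (Mono G.j → IsPullback G.t G.s p p ∧ (Flat G.t → Flat p)) := by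
  obtain ⟨⟨hv1, hv2, hv3⟩, hv4⟩ := h1
  haveI : IsFinite (v G u) := hv1
  haveI : Flat (v G u) := hv2
  haveI : LocallyOfFinitePresentation (v G u) := hv3
  haveI := isFinite_restrictMono_s G u
  haveI := flat_restrictMono_s G u
  haveI := lfp_restrictMono_s G u
  have hcov : Covers (restrictMono G u) := covers_restrictMono G u h2
  let F := fullHomRestrictMono G u
  haveI : IsFinite F.v := hv1
  haveI : Flat F.v := hv2
  haveI : Surjective F.v := hv4
  refine ⟨quotY (restrictMono G u), F.qsP hcov, F.t_qsP hcov, ⟨F.isColimitQsP hcov⟩, inferInstance,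
    F.qsP_isOpenMap hcov, fun h => ?_, F.qsP_lift_surjective hcov, fun hj => ?_⟩
  · haveI := h
    exact F.qsP_universallyClosed hcov
  · haveI := hj
    haveI := mono_j_restrictMono G u
    refine ⟨F.isPullback_qsP hcov, fun hfl => ?_⟩
    haveI := hfl
    exact F.qsP_flat hcov

end Groth.Agent.H40.GQ
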