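import Groth.Agent.H40.GQ.Orbit
import Mathlib.AlgebraicGeometry.Restrict

/-!
# Restriction of a groupoid scheme to an invariant open
-/

set_option autoImplicit false
set_option backward.isDefEq.respectTransparency.types false
universe u

open CategoryTheory CategoryTheory.Limits AlgebraicGeometry Grpd

namespace Groth.Agent.H40.GQ

open Groth.Agent.H6 Groth.Agent.H40.FG

variable {S : Scheme.{u}} (G : GroupoidScheme S) (W : G.U.Opens) (hW : IsInv G W)

namespace Res

/-- arrows with source (equivalently target) in `W`. -/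
abbrev RW : G.R.Opens := G.s ⁻¹ᵁ W

noncomputable abbrev s' : (RW G W).toScheme ⟶ W.toScheme := G.s.resLE W (RW G W) le_rfl

include hW in
theorem le_t : RW G W ≤ G.t ⁻¹ᵁ W := hW.le

noncomputable abbrev t' : (RW G W).toScheme ⟶ W.toScheme := G.t.resLE W (RW G W) (le_t G W hW)

theorem le_e : W ≤ G.e ⁻¹ᵁ (RW G W) := by
  intro x hx
  change G.s (G.e x) ∈ W
  rw [← Scheme.Hom.comp_apply, G.e_s]
  exact hx

noncomputable abbrev e' : W.toScheme ⟶ (RW G W).toScheme := G.e.resLE (RW G W) W (le_e G W)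

include hW in
theorem le_i : RW G W ≤ G.i ⁻¹ᵁ (RW G W) := by
  intro r hr
  change G.s (G.i r) ∈ W
  rw [← Scheme.Hom.comp_apply, G.i_s]
  exact (isInv_iff.mp hW r).mp hr

noncomputable abbrev i' : (RW G W).toScheme ⟶ (RW G W).toScheme :=
  G.i.resLE (RW G W) (RW G W) (le_i G W hW)

theorem s'_ι : s' G W ≫ W.ι = (RW G W).ι ≫ G.s := Scheme.Hom.resLE_comp_ι _ _

theorem t'_ι : t' G W hW ≫ W.ι = (RW G W).ι ≫ G.t := Scheme.Hom.resLE_comp_ι _ _

theorem e'_ι : e' G W ≫ (RW G W).ι = W.ι ≫ G.e := Scheme.Hom.resLE_comp_ι _ _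

theorem i'_ι : i' G W hW ≫ (RW G W).ι = (RW G W).ι ≫ G.i := Scheme.Hom.resLE_comp_ι _ _

/-- the map on composable pairs. -/
noncomputable abbrev m : pullback (s' G W) (t' G W hW) ⟶ pullback G.s G.t :=
  pullback.map (s' G W) (t' G W hW) G.s G.t (RW G W).ι (RW G W).ι W.ι (s'_ι G W) (t'_ι G W hW)

theorem range_m_c : Set.range (m G W hW ≫ G.c) ⊆ Set.range (RW G W).ι := by
  rw [Scheme.Opens.range_ι]
  rintro _ ⟨z, rfl⟩
  change G.s ((m G W hW ≫ G.c) z) ∈ W
  rw [← Scheme.Hom.comp_apply, Category.assoc, c_s, ← Category.assoc, pullback.lift_snd,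
    Category.assoc, ← s'_ι, ← Category.assoc, Scheme.Hom.comp_apply]
  exact ((pullback.snd (s' G W) (t' G W hW) ≫ s' G W) z).2

noncomputable abbrev c' : pullback (s' G W) (t' G W hW) ⟶ (RW G W).toScheme :=
  IsOpenImmersion.lift (RW G W).ι (m G W hW ≫ G.c) (range_m_c G W hW)

theorem c'_ι : c' G W hW ≫ (RW G W).ι = m G W hW ≫ G.c := IsOpenImmersion.lift_fac _ _ _

theorem lift_c'_ι {T : Scheme.{u}} (α β : T ⟶ (RW G W).toScheme)
    (h : α ≫ s' G W = β ≫ t' G W hW) :
    (pullback.lift α β h ≫ c' G W hW) ≫ (RW G W).ι =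
      GrpdCalc.comp G (α ≫ (RW G W).ι) (β ≫ (RW G W).ι) (by
        rw [Category.assoc, Category.assoc, ← s'_ι, ← t'_ι G W hW, reassoc_of% h]) := by
  unfold GrpdCalc.comp
  rw [Category.assoc, c'_ι, ← Category.assoc]
  congr 1
  apply pullback.hom_ext
  · simp only [m, pullback.map, Category.assoc, pullback.lift_fst, pullback.lift_fst_assoc]
  · simp only [m, pullback.map, Category.assoc, pullback.lift_snd, pullback.lift_snd_assoc]

end Res

open Res

/-- the restriction of a groupoid scheme to an invariant open. -/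
noncomputable abbrev restrict : GroupoidScheme S where
  U := W.toScheme
  R := (RW G W).toScheme
  pU := W.ι ≫ G.pU
  pR := (RW G W).ι ≫ G.pR
  s := s' G W
  t := t' G W hW
  e := e' G W
  i := i' G W hW
  c := c' G W hW
  s_over := by rw [reassoc_of% s'_ι G W, G.s_over]
  t_over := by rw [reassoc_of% t'_ι G W hW, G.t_over]
  comp_s := by
    intro T α β h
    rw [← cancel_mono W.ι, Category.assoc, s'_ι, ← Category.assoc, lift_c'_ι, GrpdCalc.comp_s,
      Category.assoc, Category.assoc, s'_ι]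
  comp_t := by
    intro T α β h
    rw [← cancel_mono W.ι, Category.assoc, t'_ι, ← Category.assoc, lift_c'_ι, GrpdCalc.comp_t,
      Category.assoc, Category.assoc, t'_ι]
  assoc := by
    intro T α β γ h₁ h₂
    rw [← cancel_mono (RW G W).ι]
    simp only [lift_c'_ι]
    exact GrpdCalc.assoc G _ _ _ _ _
  e_s := by
    rw [← cancel_mono W.ι, Category.assoc, s'_ι, reassoc_of% e'_ι G W, G.e_s, Category.id_comp,
      Category.comp_id]
  e_t := by
    rw [← cancel_mono W.ι, Category.assoc, t'_ι, reassoc_of% e'_ι G W, G.e_t, Category.id_comp,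
      Category.comp_id]
  comp_e := by
    intro T α
    rw [← cancel_mono (RW G W).ι, lift_c'_ι]
    apply GrpdCalc.comp_e'
    rw [Category.assoc, Category.assoc, e'_ι, reassoc_of% s'_ι G W, Category.assoc]
  e_comp := by
    intro T α
    rw [← cancel_mono (RW G W).ι, lift_c'_ι]
    apply GrpdCalc.e_comp'
    rw [Category.assoc, Category.assoc, e'_ι, reassoc_of% t'_ι G W hW, Category.assoc]
  i_s := by
    rw [← cancel_mono W.ι, Category.assoc, s'_ι, reassoc_of% i'_ι G W hW, G.i_s, t'_ι]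
  i_t := by
    rw [← cancel_mono W.ι, Category.assoc, t'_ι, reassoc_of% i'_ι G W hW, G.i_t, s'_ι]
  comp_i := by
    intro T α
    rw [← cancel_mono (RW G W).ι, lift_c'_ι]
    have e1 : (α ≫ i' G W hW) ≫ (RW G W).ι = (α ≫ (RW G W).ι) ≫ G.i := by
      rw [Category.assoc, i'_ι, Category.assoc]
    simp only [e1]
    rw [GrpdCalc.comp_i]
    rw [Category.assoc, Category.assoc, Category.assoc, e'_ι, reassoc_of% t'_ι G W hW]
  i_comp := by
    intro T α
    rw [← cancel_mono (RW G W).ι, lift_c'_ι]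
    have e1 : (α ≫ i' G W hW) ≫ (RW G W).ι = (α ≫ (RW G W).ι) ≫ G.i := by
      rw [Category.assoc, i'_ι, Category.assoc]
    simp only [e1]
    rw [GrpdCalc.i_comp]
    rw [Category.assoc, Category.assoc, Category.assoc, e'_ι, reassoc_of% s'_ι G W]

end Groth.Agent.H40.GQ
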