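import Groth.Agent.H40.GQ.Orbit

/-!
# Restriction of a groupoid scheme along a monomorphism `u : U' ⟶ U`
-/

set_option autoImplicit false
set_option backward.isDefEq.respectTransparency.types false
universe u

open CategoryTheory CategoryTheory.Limits AlgebraicGeometry Grpd

namespace Groth.Agent.H40.GQ

open Groth.Agent.H6 Groth.Agent.H40.FG

variable {S : Scheme.{u}} (G : GroupoidScheme S) {U' : Scheme.{u}} (u : U' ⟶ G.U)

namespace RM

/-- arrows with target in `U'`. -/
noncomputable abbrev V : Scheme.{u} := pullback G.t u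

/-- the source map on arrows with target in `U'`. -/
noncomputable def v : V G u ⟶ G.U := pullback.fst G.t u ≫ G.s

/-- arrows with source and target in `U'`. -/
noncomputable abbrev R' : Scheme.{u} := pullback (v G u) u

noncomputable def ρ : R' G u ⟶ G.R := pullback.fst (v G u) u ≫ pullback.fst G.t u

noncomputable def s' : R' G u ⟶ U' := pullback.snd (v G u) u

noncomputable def t' : R' G u ⟶ U' := pullback.fst (v G u) u ≫ pullback.snd G.t u

theorem ρ_s : ρ G u ≫ G.s = s' G u ≫ u := by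
  unfold ρ s'
  rw [Category.assoc]
  exact pullback.condition

theorem ρ_t : ρ G u ≫ G.t = t' G u ≫ u := by
  unfold ρ t'
  rw [Category.assoc, Category.assoc, pullback.condition]

instance [Mono u] : Mono (ρ G u) := by
  unfold ρ
  exact mono_comp _ _

/-- lifting a `T`-point of `R` with source and target in `U'`. -/
noncomputable def lift {T : Scheme.{u}} (α : T ⟶ G.R) (a b : T ⟶ U') (ha : α ≫ G.t = a ≫ u)
    (hb : α ≫ G.s = b ≫ u) : T ⟶ R' G u :=
  pullback.lift (pullback.lift α a ha) b (by unfold v; rw [pullback.lift_fst_assoc, hb])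

variable {G u}

@[reassoc (attr := simp)]
theorem lift_ρ {T : Scheme.{u}} (α : T ⟶ G.R) (a b : T ⟶ U') (ha : α ≫ G.t = a ≫ u)
    (hb : α ≫ G.s = b ≫ u) : lift G u α a b ha hb ≫ ρ G u = α := by
  unfold lift ρ
  rw [pullback.lift_fst_assoc, pullback.lift_fst]

@[reassoc (attr := simp)]
theorem lift_s' {T : Scheme.{u}} (α : T ⟶ G.R) (a b : T ⟶ U') (ha : α ≫ G.t = a ≫ u)
    (hb : α ≫ G.s = b ≫ u) : lift G u α a b ha hb ≫ s' G u = b := by
  unfold lift s'
  rw [pullback.lift_snd]

@[reassoc (attr := simp)]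
theorem lift_t' {T : Scheme.{u}} (α : T ⟶ G.R) (a b : T ⟶ U') (ha : α ≫ G.t = a ≫ u)
    (hb : α ≫ G.s = b ≫ u) : lift G u α a b ha hb ≫ t' G u = a := by
  unfold lift t'
  rw [pullback.lift_fst_assoc, pullback.lift_snd]

variable (G u)

noncomputable abbrev e' : U' ⟶ R' G u :=
  lift G u (u ≫ G.e) (𝟙 U') (𝟙 U') (by rw [Category.assoc, G.e_t, Category.comp_id, Category.id_comp])
    (by rw [Category.assoc, G.e_s, Category.comp_id, Category.id_comp])

noncomputable abbrev i' : R' G u ⟶ R' G u :=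
  lift G u (ρ G u ≫ G.i) (s' G u) (t' G u) (by rw [Category.assoc, G.i_t, ρ_s])
    (by rw [Category.assoc, G.i_s, ρ_t])

theorem c'_aux : (pullback.fst (s' G u) (t' G u) ≫ ρ G u) ≫ G.s =
    (pullback.snd (s' G u) (t' G u) ≫ ρ G u) ≫ G.t := by
  rw [Category.assoc, Category.assoc, ρ_s, ρ_t, pullback.condition_assoc]

noncomputable abbrev c' : pullback (s' G u) (t' G u) ⟶ R' G u :=
  lift G u (GrpdCalc.comp G (pullback.fst (s' G u) (t' G u) ≫ ρ G u)
      (pullback.snd (s' G u) (t' G u) ≫ ρ G u) (c'_aux G u))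
    (pullback.fst (s' G u) (t' G u) ≫ t' G u) (pullback.snd (s' G u) (t' G u) ≫ s' G u)
    (by rw [GrpdCalc.comp_t, Category.assoc, Category.assoc, ρ_t])
    (by rw [GrpdCalc.comp_s, Category.assoc, Category.assoc, ρ_s])

theorem e'_ρ : e' G u ≫ ρ G u = u ≫ G.e := lift_ρ _ _ _ _ _

theorem i'_ρ : i' G u ≫ ρ G u = ρ G u ≫ G.i := lift_ρ _ _ _ _ _

theorem lift_c'_ρ {T : Scheme.{u}} (α β : T ⟶ R' G u) (h : α ≫ s' G u = β ≫ t' G u) :
    (pullback.lift α β h ≫ c' G u) ≫ ρ G u =
      GrpdCalc.comp G (α ≫ ρ G u) (β ≫ ρ G u) (by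
        rw [Category.assoc, Category.assoc, ρ_s, ρ_t, reassoc_of% h]) := by
  rw [Category.assoc, lift_ρ, GrpdCalc.precomp]
  apply GrpdCalc.comp_congr
  · rw [pullback.lift_fst_assoc]
  · rw [pullback.lift_snd_assoc]

end RM

open RM

/-- the restriction of a groupoid scheme along a monomorphism. -/
noncomputable abbrev restrictMono [Mono u] : GroupoidScheme S where
  U := U'
  R := R' G u
  pU := u ≫ G.pU
  pR := ρ G u ≫ G.pR
  s := s' G u
  t := t' G u
  e := e' G u
  i := i' G u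
  c := c' G u
  s_over := by rw [← reassoc_of% ρ_s G u, G.s_over]
  t_over := by rw [← reassoc_of% ρ_t G u, G.t_over]
  comp_s := by
    intro T α β h
    rw [← cancel_mono u, Category.assoc, ← ρ_s, ← Category.assoc, lift_c'_ρ, GrpdCalc.comp_s,
      Category.assoc, Category.assoc, ρ_s]
  comp_t := by
    intro T α β h
    rw [← cancel_mono u, Category.assoc, ← ρ_t, ← Category.assoc, lift_c'_ρ, GrpdCalc.comp_t,
      Category.assoc, Category.assoc, ρ_t]
  assoc := by
    intro T α β γ h₁ h₂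
    rw [← cancel_mono (ρ G u)]
    simp only [lift_c'_ρ]
    exact GrpdCalc.assoc G _ _ _ _ _
  e_s := lift_s' _ _ _ _ _
  e_t := lift_t' _ _ _ _ _
  comp_e := by
    intro T α
    rw [← cancel_mono (ρ G u), lift_c'_ρ]
    apply GrpdCalc.comp_e'
    rw [Category.assoc, Category.assoc, e'_ρ, ← reassoc_of% ρ_s G u, Category.assoc]
  e_comp := by
    intro T α
    rw [← cancel_mono (ρ G u), lift_c'_ρ]
    apply GrpdCalc.e_comp'
    rw [Category.assoc, Category.assoc, e'_ρ, ← reassoc_of% ρ_t G u, Category.assoc]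
  i_s := lift_s' _ _ _ _ _
  i_t := lift_t' _ _ _ _ _
  comp_i := by
    intro T α
    rw [← cancel_mono (ρ G u), lift_c'_ρ]
    have e1 : (α ≫ i' G u) ≫ ρ G u = (α ≫ ρ G u) ≫ G.i := by
      rw [Category.assoc, i'_ρ, Category.assoc]
    simp only [e1]
    rw [GrpdCalc.comp_i]
    rw [Category.assoc, Category.assoc, Category.assoc, e'_ρ, ← reassoc_of% ρ_t G u]
  i_comp := by
    intro T α
    rw [← cancel_mono (ρ G u), lift_c'_ρ]
    have e1 : (α ≫ i' G u) ≫ ρ G u = (α ≫ ρ G u) ≫ G.i := by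
      rw [Category.assoc, i'_ρ, Category.assoc]
    simp only [e1]
    rw [GrpdCalc.i_comp]
    rw [Category.assoc, Category.assoc, Category.assoc, e'_ρ, ← reassoc_of% ρ_s G u]

end Groth.Agent.H40.GQ
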